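import Cfsg.Agent.HallJanko.Seven
import Cfsg.Agent.HallJanko.FiveMain
import Cfsg.Agent.HallJanko.ThreeMain

/-!
# The element orders of a group with the Hall–Janko involution centraliser
-/

set_option autoImplicit false
set_option linter.style.haveILetI false

namespace CfsgLib.HallJankoSpectrum

open CfsgLib.HallJanko

theorem altFive_orders : ∀ a : alternatingGroup (Fin 5),
    a = 1 ∨ a * a = 1 ∨ a * a * a = 1 ∨ a * a * a * a * a = 1 := by decide +kernel

theorem altSix_nine : ∀ a : alternatingGroup (Fin 6),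
    a * a * a * (a * a * a) * (a * a * a) = 1 → a * a * a = 1 := by decide +kernel

variable {G : Type*} [Group G] [Finite G] {z : G} {Q : Subgroup G}

section Loc

variable (h : Core z Q) (L : Loc z Q) {X0 : Subgroup G} (c : Comp h L X0)
include h c

/-- An element of `C(s)` whose image in `A₆` has order 3 is conjugate to `r`. -/
theorem conj_r_of_image {φ : Subgroup.centralizer ({L.s} : Set G) →* alternatingGroup (Fin 6)}
    (hφ : Function.Surjective φ) (hφk : ∀ k, φ k = 1 ↔ (k : G) ∈ Subgroup.zpowers L.s)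
    {d : G} (hds : d * L.s = L.s * d)
    (hd1 : φ ⟨d, Subgroup.mem_centralizer_singleton_iff.2 hds⟩ ≠ 1)
    (hc3 : φ ⟨d, Subgroup.mem_centralizer_singleton_iff.2 hds⟩ *
      φ ⟨d, Subgroup.mem_centralizer_singleton_iff.2 hds⟩ *
      φ ⟨d, Subgroup.mem_centralizer_singleton_iff.2 hds⟩ = 1) :
    IsConj d L.r := by
  classical
  obtain ⟨-, -, hsig⟩ := L.main h c
  let K := Subgroup.centralizer ({L.s} : Set G)
  have hKm : ∀ {g : G}, g ∈ K ↔ g * L.s = L.s * g := Subgroup.mem_centralizer_singleton_iff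
  let d' : K := ⟨d, hKm.2 hds⟩
  obtain ⟨y, hy1, hy2, hy3, hy4, hy5⟩ := Alt.six_four _ hd1 hc3
  have hs3 : ∀ u : K, φ u = 1 → (u : G) * u * u = 1 := by
    intro u hu
    obtain ⟨i, hi⟩ := Subgroup.mem_zpowers_iff.1 ((hφk u).1 hu)
    rcases zpow_three_cases L.s_cube i with e | e | e <;> rw [← hi, e]
    · simp
    · exact L.s_cube
    · rw [← mul_inv_rev, ← mul_inv_rev, ← mul_assoc, L.s_cube, inv_one]
  -- involutions with the same image are equal
  have huniq : ∀ u v : K, (u : G) * u = 1 → (v : G) * v = 1 → φ u = φ v → (u : G) = v := by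
    intro u v hu hv e
    have e1 : φ (u⁻¹ * v) = 1 := by rw [map_mul, map_inv, e, inv_mul_cancel]
    obtain ⟨i, hi⟩ := Subgroup.mem_zpowers_iff.1 ((hφk _).1 e1)
    have hcu : Commute (u : G) (L.s ^ i) := (show Commute (u : G) L.s from hKm.1 u.2).zpow_right i
    have hve : (v : G) = u * L.s ^ i := by rw [hi]; simp
    rw [hve, hcu.symm.mul_mul_mul_comm, hu, one_mul] at hv
    rw [hve, L.s_pow_eq_one h hv, mul_one]
  obtain ⟨Y0, hY0⟩ := hφ y
  obtain ⟨Y, hY⟩ : ∃ Y, Y = Y0 * Y0 * Y0 := ⟨_, rfl⟩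
  have hφY : φ Y = y := by rw [hY, map_mul, map_mul, hY0, hy2, one_mul]
  have hYY : (Y : G) * Y = 1 := by
    have := hs3 (Y0 * Y0) (by rw [map_mul, hY0, hy2])
    rw [hY]
    simp only [Subgroup.coe_mul, mul_assoc] at this ⊢
    exact this
  have hYo : orderOf (Y : G) = 2 := CfsgLib.Small.orderOf_eq_two_iff_sq.2
    ⟨fun e => hy1 (by rw [← hφY, show Y = 1 from Subtype.ext e, map_one]), hYY⟩
  obtain ⟨Y2, hY2⟩ : ∃ Y2, Y2 = d' * Y * d'⁻¹ := ⟨_, rfl⟩
  have hφY2 : φ Y2 = φ d' * y * (φ d')⁻¹ := by rw [hY2, map_mul, map_mul, map_inv, hφY]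
  have hY2Y2 : (Y2 : G) * Y2 = 1 := by
    rw [hY2]
    simp only [Subgroup.coe_mul, Subgroup.coe_inv]
    rw [show (d' : G) * Y * (d' : G)⁻¹ * ((d' : G) * Y * (d' : G)⁻¹) =
      (d' : G) * ((Y : G) * Y) * (d' : G)⁻¹ by group, hYY, mul_one, mul_inv_cancel]
  have hcomm : (Y2 : G) * Y = Y * Y2 := by
    have e1 := huniq (Y2 * Y * Y2⁻¹) Y (by
      simp only [Subgroup.coe_mul, Subgroup.coe_inv]
      rw [show (Y2 : G) * Y * (Y2 : G)⁻¹ * ((Y2 : G) * Y * (Y2 : G)⁻¹) =
        (Y2 : G) * ((Y : G) * Y) * (Y2 : G)⁻¹ by group, hYY, mul_one, mul_inv_cancel]) hYY (by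
      rw [map_mul, map_mul, map_inv, hφY2, hφY, ← hy5, mul_inv_cancel_right])
    exact mul_inv_eq_iff_eq_mul.1 e1
  have hcyc : (d : G) * Y2 * d⁻¹ = Y * Y2 := by
    refine huniq (d' * Y2 * d'⁻¹) (Y * Y2) ?_ ?_ ?_
    · simp only [Subgroup.coe_mul, Subgroup.coe_inv]
      rw [show (d' : G) * Y2 * (d' : G)⁻¹ * ((d' : G) * Y2 * (d' : G)⁻¹) =
        (d' : G) * ((Y2 : G) * Y2) * (d' : G)⁻¹ by group, hY2Y2, mul_one, mul_inv_cancel]
    · simp only [Subgroup.coe_mul]
      rw [(show Commute (Y2 : G) Y from hcomm).mul_mul_mul_comm, hYY, hY2Y2, one_mul]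
    · rw [map_mul, map_mul, map_mul, map_inv, hφY, hφY2, hy3]
  -- move the four-group onto `z`
  obtain ⟨g, hgs, hgY⟩ := hsig.invol _ (hKm.1 Y.2) hYo
  have hY2' : (Y2 : G) = d * Y * d⁻¹ := by rw [hY2]; rfl
  refine (isConj_iff.2 ⟨g, rfl⟩ : IsConj d (g * d * g⁻¹)).trans (L.four_case h c ?_ ?_ ?_ ?_)
  · exact (((show Commute g L.s from hgs).mul_left (show Commute d L.s from hds)).mul_left
      (show Commute g L.s from hgs).inv_left).eq
  all_goals
    have hz2 : g * d * g⁻¹ * z * (g * d * g⁻¹)⁻¹ = g * Y2 * g⁻¹ := by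
      rw [← hgY, hY2']; group
    rw [hz2]
  · rw [← hgY]
    exact ((SemiconjBy.conj_iff (b := g)).2 (show Commute (Y2 : G) Y from hcomm) : _)
  · intro e
    rw [← hgY] at e
    exact hy4 (by
      have e' : (Y2 : G) = Y := mul_left_cancel (mul_right_cancel e)
      rw [← hφY2, ← hφY, show Y2 = Y from Subtype.ext e'])
  · rw [← hgY]
    calc g * d * g⁻¹ * (g * Y2 * g⁻¹) * (g * d * g⁻¹)⁻¹ = g * (d * Y2 * d⁻¹) * g⁻¹ := by group
      _ = g * Y * g⁻¹ * (g * Y2 * g⁻¹) := by rw [hcyc]; group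


/-- A 3-element has order at most 3. -/
theorem not_nine {x : G} : orderOf x ≠ 9 := by
  classical
  intro hx
  haveI : Fact (Nat.Prime 3) := ⟨Nat.prime_three⟩
  obtain ⟨-, -, hsig⟩ := L.main h c
  obtain ⟨φ, hφ, hφk⟩ := hsig.hom
  obtain ⟨R, -, -, hcs, -, -, -⟩ := L.exists_sylow_three h c
  obtain ⟨S, hS⟩ := (IsPGroup.of_card (p := 3) (n := 2)
    (show Nat.card (Subgroup.zpowers x) = 3 ^ 2 by rw [Nat.card_zpowers, hx]; norm_num)).exists_le_sylow
  obtain ⟨a, ha⟩ := MulAction.exists_smul_eq G S R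
  obtain ⟨d, hd⟩ : ∃ d, d = a * x * a⁻¹ := ⟨_, rfl⟩
  have hdR : d ∈ (R : Subgroup G) := by
    rw [hd, ← ha, Sylow.coe_subgroup_smul]
    exact ⟨x, hS (Subgroup.mem_zpowers x), rfl⟩
  have hdo : orderOf d = 9 := by rw [hd, CfsgLib.Small.orderOf_conj_eq, hx]
  let d' : Subgroup.centralizer ({L.s} : Set G) :=
    ⟨d, Subgroup.mem_centralizer_singleton_iff.2 (hcs d hdR)⟩
  by_cases hd1 : φ d' = 1
  · have := Subgroup.orderOf_dvd_natCard _ ((hφk d').1 hd1)
    rw [Nat.card_zpowers, L.hs3] at this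
    change orderOf d ∣ 3 at this
    rw [hdo] at this
    norm_num at this
  · have h9 : d' ^ 9 = 1 := by
      apply Subtype.ext
      show d ^ 9 = 1
      rw [← hdo, pow_orderOf_eq_one]
    have hc3 : φ d' * φ d' * φ d' = 1 := altSix_nine _ (by
      have e := congrArg φ h9
      rw [map_pow, map_one] at e
      simpa [pow_succ, mul_assoc] using e)
    obtain ⟨g, hg⟩ := isConj_iff.1 (conj_r_of_image h L c hφ hφk (hcs d hdR) hd1 hc3)
    have e3 := L.hr3
    rw [← hg, CfsgLib.Small.orderOf_conj_eq, hdo] at e3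
    norm_num at e3

/-- An element commuting with `t` has order dividing 6 or 10. -/
theorem dvd_of_cent_t {x : G} (hx : x * L.t = L.t * x) : orderOf x ∣ 6 ∨ orderOf x ∣ 10 := by
  obtain ⟨e⟩ := L.equiv_A5 h c
  obtain ⟨v, hv, hy⟩ := c.decomp x hx
  obtain ⟨y, hyd⟩ : ∃ y, y = v⁻¹ * x := ⟨_, rfl⟩
  rw [← hyd] at hy
  have hxe : x = v * y := by rw [hyd]; group
  have hcomm : Commute v y := c.vcomm v hv y hy
  have hv2 : v ^ 2 = 1 := by
    rw [pow_two]
    rcases (L.mem_V h).1 hv with rfl | rfl | rfl | rfl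
    · exact one_mul 1
    · exact L.ht2
    · exact (L.t2_facts h).2.1
    · rw [show L.t * L.t2 * (L.t * L.t2) = L.t * (L.t2 * L.t) * L.t2 by group,
        ← (L.t_rel h).1, ← mul_assoc, L.ht2, one_mul, (L.t2_facts h).2.1]
  have hv6 : v ^ 6 = 1 := by rw [show 6 = 2 * 3 from rfl, pow_mul, hv2, one_pow]
  have hv10 : v ^ 10 = 1 := by rw [show 10 = 2 * 5 from rfl, pow_mul, hv2, one_pow]
  have key : ∀ n : ℕ, v ^ n = 1 → (e ⟨y, hy⟩) ^ n = 1 → orderOf x ∣ n := by
    intro n h1 h2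
    refine orderOf_dvd_of_pow_eq_one ?_
    rw [← map_pow, e.map_eq_one_iff] at h2
    have h3 : y ^ n = 1 := congrArg Subtype.val h2
    rw [hxe, hcomm.mul_pow, h1, h3, one_mul]
  rcases altFive_orders (e ⟨y, hy⟩) with h1 | h1 | h1 | h1
  · exact Or.inl (key 6 hv6 (by rw [h1, one_pow]))
  · exact Or.inl (key 6 hv6 (by simp only [pow_succ, pow_zero, one_mul, h1]))
  · exact Or.inl (key 6 hv6 (by simp only [pow_succ, pow_zero, one_mul, h1]))
  · exact Or.inr (key 10 hv10 (by simp only [pow_succ, pow_zero, one_mul, h1]))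

/-- An element commuting with `z` has order dividing 8, 10 or 12. -/
theorem dvd_of_cent_z {x : G} (hx : x * z = z * x) :
    orderOf x ∣ 8 ∨ orderOf x ∣ 10 ∨ orderOf x ∣ 12 := by
  have key : ∀ n : ℕ, (L.F.p hx) ^ n = 1 → x ^ n ∈ Q := by
    intro n hn
    refine (L.F.ker ⟨x ^ n, Subgroup.mem_centralizer_singleton_iff.2
      ((show Commute x z from hx).pow_left n).eq⟩).1 ?_
    rw [← hn, ← map_pow]
    exact congrArg L.F.π (Subtype.ext rfl)
  have four : ∀ n : ℕ, x ^ n ∈ Q → x ^ (n * 4) = 1 := by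
    intro n hn
    rw [pow_mul]
    simpa [pow_succ, mul_assoc] using h.Q_sq_orderOf hn
  rcases altFive_orders (L.F.p hx) with h1 | h1 | h1 | h1
  · exact Or.inl ((orderOf_dvd_of_pow_eq_one (four 1 (key 1 (by rw [h1, one_pow])))).trans
      (by norm_num))
  · exact Or.inl (orderOf_dvd_of_pow_eq_one (four 2 (key 2 (by rw [pow_two, h1]))))
  · exact Or.inr (Or.inr (orderOf_dvd_of_pow_eq_one
      (four 3 (key 3 (by simp only [pow_succ, pow_zero, one_mul, h1])))))
  · have hq := key 5 (by simp only [pow_succ, pow_zero, one_mul, h1])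
    have h20 : x ^ 20 = 1 := four 5 hq
    by_cases hg : x ^ 4 = 1
    · exact Or.inl ((orderOf_dvd_of_pow_eq_one hg).trans (by norm_num))
    haveI : Fact (Nat.Prime 5) := ⟨by norm_num⟩
    have h5 : orderOf (x ^ 4) = 5 := orderOf_eq_prime (by rw [← pow_mul]; exact h20) hg
    have hfix : x ^ 4 * x ^ 5 * (x ^ 4)⁻¹ = x ^ 5 := by
      rw [(Commute.pow_pow_self x 4 5).eq, mul_inv_cancel_right]
    refine Or.inr (Or.inl (orderOf_dvd_of_pow_eq_one ?_))
    rw [show 10 = 5 * 2 from rfl, pow_mul]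
    rcases h.fixed_five ((show Commute x z from hx).pow_left 4).eq h5 hq hfix with e | e <;> rw [e]
    · rw [one_pow]
    · rw [pow_two, h.zz]

/-- An element commuting with an element of order 7 has order 1 or 7. -/
theorem dvd_seven {x d : G} (hd : orderOf d = 7) (hx : x * d = d * x) : orderOf x ∣ 7 := by
  haveI : Fact (Nat.Prime 7) := ⟨by norm_num⟩
  obtain ⟨hG, -, -⟩ := L.main h c
  obtain ⟨D, hD⟩ := (IsPGroup.of_card (p := 7) (n := 1)
    (show Nat.card (Subgroup.zpowers d) = 7 ^ 1 by rw [Nat.card_zpowers, hd, pow_one])).exists_le_sylow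
  have h7 : Nat.card (D : Subgroup G) = 7 := by
    rw [Sylow.card_eq_multiplicity, hG, show (604800 : ℕ) = 86400 * 7 ^ 1 by norm_num,
      Nat.factorization_mul (by norm_num) (by norm_num), Finsupp.add_apply,
      Nat.Prime.factorization_pow (by norm_num : Nat.Prime 7),
      Nat.factorization_eq_zero_of_not_dvd (by norm_num : ¬ 7 ∣ 86400)]
    simp
  have hDe : Subgroup.zpowers d = (D : Subgroup G) :=
    Subgroup.eq_of_le_of_card_ge hD (by rw [h7, Nat.card_zpowers, hd])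
  have hxD : x ∈ (D : Subgroup G) := by
    rw [← (L.seven_main h c D).1, ← hDe, Subgroup.mem_centralizer_iff]
    intro g hg
    obtain ⟨i, rfl⟩ := Subgroup.mem_zpowers_iff.1 hg
    exact ((show Commute x d from hx).zpow_right i).eq.symm
  exact h7 ▸ Subgroup.orderOf_dvd_natCard _ hxD

/-- There is no element of order 25. -/
theorem not_twentyfive {x : G} : orderOf x ≠ 25 := by
  intro hx
  haveI : Fact (Nat.Prime 5) := ⟨by norm_num⟩
  obtain ⟨P, f, w, y, F⟩ := L.exists_fivePt h c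
  obtain ⟨S, hS⟩ := (IsPGroup.of_card (p := 5) (n := 2)
    (show Nat.card (Subgroup.zpowers x) = 5 ^ 2 by rw [Nat.card_zpowers, hx]; norm_num)).exists_le_sylow
  obtain ⟨a, ha⟩ := MulAction.exists_smul_eq G S P
  have hm : a * x * a⁻¹ ∈ (P : Subgroup G) := by
    rw [← ha, Sylow.coe_subgroup_smul]
    exact ⟨x, hS (Subgroup.mem_zpowers x), rfl⟩
  have := orderOf_dvd_of_pow_eq_one (F.exp _ hm)
  rw [CfsgLib.Small.orderOf_conj_eq, hx] at this
  norm_num at this

/-- The possible element orders. -/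
theorem orderOf_cases (x : G) :
    orderOf x ∈ ({1, 2, 3, 4, 5, 6, 7, 8, 10, 12, 15} : Finset ℕ) := by
  have hdiv : ∀ n m : ℕ, n ∈ ({6, 7, 8, 10, 12, 15} : Finset ℕ) → m ∣ n →
      m ∈ ({1, 2, 3, 4, 5, 6, 7, 8, 10, 12, 15} : Finset ℕ) := by
    intro n m hn hm
    have hle : m ≤ 15 := (Nat.le_of_dvd (by simp at hn; omega) hm).trans (by simp at hn; omega)
    simp at hn
    rcases hn with rfl | rfl | rfl | rfl | rfl | rfl <;> interval_cases m <;> simp_all
  obtain ⟨hG, -, -⟩ := L.main h c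
  have hdvd : orderOf x ∣ 604800 := hG ▸ orderOf_dvd_natCard x
  have hpow : ∀ k m : ℕ, orderOf x = k * m → 0 < k → orderOf (x ^ k) = m := by
    intro k m hkm hk
    rw [orderOf_pow' x hk.ne', hkm, Nat.gcd_mul_right_left, Nat.mul_div_cancel_left m hk]
  by_cases h2 : 2 ∣ orderOf x
  · obtain ⟨m, hm⟩ := h2
    have hm0 : 0 < m := by
      rcases Nat.eq_zero_or_pos m with rfl | hm0
      · exact absurd hm (by simpa using (orderOf_pos x).ne')
      · exact hm0
    have hu := hpow m 2 (by rw [hm, mul_comm]) hm0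
    rcases h.classes L.ht L.ht2 L.htQ hu with e | e <;> obtain ⟨g, hg⟩ := isConj_iff.1 e
    · have hc : Commute (g⁻¹ * x * g) z := by
        have hz : z = g⁻¹ * x ^ m * g := by rw [← hg]; group
        rw [hz]
        have := (SemiconjBy.conj_iff (b := g⁻¹)).2 (Commute.self_pow x m : SemiconjBy x _ _)
        rwa [inv_inv] at this
      have ho : orderOf (g⁻¹ * x * g) = orderOf x := by
        rw [show g⁻¹ * x * g = g⁻¹ * x * g⁻¹⁻¹ by group, CfsgLib.Small.orderOf_conj_eq]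
      rcases ho ▸ dvd_of_cent_z h L c hc.eq with e | e | e
      · exact hdiv 8 _ (by simp) e
      · exact hdiv 10 _ (by simp) e
      · exact hdiv 12 _ (by simp) e
    · have hc : Commute (g⁻¹ * x * g) L.t := by
        have hz : L.t = g⁻¹ * x ^ m * g := by rw [← hg]; group
        rw [hz]
        have := (SemiconjBy.conj_iff (b := g⁻¹)).2 (Commute.self_pow x m : SemiconjBy x _ _)
        rwa [inv_inv] at this
      have ho : orderOf (g⁻¹ * x * g) = orderOf x := by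
        rw [show g⁻¹ * x * g = g⁻¹ * x * g⁻¹⁻¹ by group, CfsgLib.Small.orderOf_conj_eq]
      rcases ho ▸ dvd_of_cent_t h L c hc.eq with e | e
      · exact hdiv 6 _ (by simp) e
      · exact hdiv 10 _ (by simp) e
  by_cases h7 : 7 ∣ orderOf x
  · obtain ⟨m, hm⟩ := h7
    have hm0 : 0 < m := by
      rcases Nat.eq_zero_or_pos m with rfl | hm0
      · exact absurd hm (by simpa using (orderOf_pos x).ne')
      · exact hm0
    exact hdiv 7 _ (by simp)
      (dvd_seven h L c (hpow m 7 (by rw [hm, mul_comm]) hm0) (Commute.self_pow x m).eq)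
  have h675 : orderOf x ∣ 675 := by
    refine ((Nat.Coprime.mul_right ?_ ?_).dvd_of_dvd_mul_left
      (show orderOf x ∣ (128 * 7) * 675 by norm_num; exact hdvd))
    · rw [show 128 = 2 ^ 7 from rfl]
      exact (((Nat.prime_two.coprime_iff_not_dvd).2 h2).symm).pow_right 7
    · exact (((by norm_num : Nat.Prime 7).coprime_iff_not_dvd).2 h7).symm
  have h9 : ¬ 9 ∣ orderOf x := fun ⟨m, hm⟩ => not_nine h L c (x := x ^ m)
    (hpow m 9 (by rw [hm, mul_comm]) (by
      rcases Nat.eq_zero_or_pos m with rfl | hm0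
      · exact absurd hm (by simpa using (orderOf_pos x).ne')
      · exact hm0))
  have h25 : ¬ 25 ∣ orderOf x := fun ⟨m, hm⟩ => not_twentyfive h L c (x := x ^ m)
    (hpow m 25 (by rw [hm, mul_comm]) (by
      rcases Nat.eq_zero_or_pos m with rfl | hm0
      · exact absurd hm (by simpa using (orderOf_pos x).ne')
      · exact hm0))
  refine hdiv 15 _ (by simp) ?_
  have key : ∀ n ∈ Nat.divisors 675, ¬ 9 ∣ n → ¬ 25 ∣ n → n ∣ 15 := by decide +kernel
  exact key _ (Nat.mem_divisors.2 ⟨h675, by norm_num⟩) h9 h25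

end Loc

/-- The element orders `8` and `12` occur in `C(z)`, and `10`, `15` and `7` occur in `G`. -/
theorem exists_order (h : Core z Q) :
    ∀ n ∈ ({1, 2, 3, 4, 5, 6, 7, 8, 10, 12, 15} : Finset ℕ), ∃ x : G, orderOf x = n := by
  classical
  obtain ⟨L⟩ := h.exists_locdata
  obtain ⟨X0, c⟩ := L.exists_comp h
  obtain ⟨hG, ⟨e⟩, -⟩ := L.main h c
  have hpow : ∀ (x : G) (k m : ℕ), orderOf x = k * m → 0 < k → orderOf (x ^ k) = m := by
    intro x k m hkm hk
    rw [orderOf_pow' x hk.ne', hkm, Nat.gcd_mul_right_left, Nat.mul_div_cancel_left m hk]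
  -- order 7
  haveI : Fact (Nat.Prime 7) := ⟨by norm_num⟩
  obtain ⟨x7, hx7⟩ := exists_prime_orderOf_dvd_card' (G := G) 7 (by rw [hG]; norm_num)
  -- order 15
  haveI : Fact (Nat.Prime 5) := ⟨by norm_num⟩
  obtain ⟨f, hf⟩ := exists_prime_orderOf_dvd_card' (G := X0) 5 (by
    rw [L.card_X0 h c]; norm_num)
  rw [← Subgroup.orderOf_coe] at hf
  have h15 : orderOf (L.s * f) = 15 := by
    rw [(show Commute L.s f from L.scomm h c f f.2).orderOf_mul_eq_mul_orderOf_of_coprime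
      (by rw [L.hs3, hf]; norm_num), L.hs3, hf]
  have h10 : orderOf (L.t * f) = 10 := by
    rw [(show Commute L.t f from (c.le f f.2).symm).orderOf_mul_eq_mul_orderOf_of_coprime
      (by rw [L.t_ord h, hf]; norm_num), L.t_ord h, hf]
  -- order 12
  obtain ⟨j, hjf, hsj, -⟩ := L.exists_j h
  have h4 : ∀ i k : Fin 5, i ≠ k → orderOf (L.F.a i * L.F.a k) = 4 := by
    intro i k hik
    have e := L.F.sq4 h i k hik
    haveI : Fact (Nat.Prime 2) := ⟨Nat.prime_two⟩
    refine orderOf_eq_prime_pow (p := 2) (n := 1) ?_ ?_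
    · rw [pow_one, pow_two, e]; exact h.z_ne_one
    · rw [show 2 ^ (1 + 1) = 2 * 2 from rfl, pow_mul, pow_two (L.F.a i * L.F.a k), e, pow_two, h.zz]
  have h12 : orderOf (L.s * (L.F.a L.f * L.F.a j)) = 12 := by
    rw [((show Commute L.s (L.F.a L.f) from L.hsu).mul_right hsj).orderOf_mul_eq_mul_orderOf_of_coprime
      (by rw [L.hs3, h4 _ _ hjf.symm]; norm_num), L.hs3, h4 _ _ hjf.symm]
  -- order 8
  obtain ⟨i, hi⟩ : ∃ i, (L.F.p L.ht : Equiv.Perm (Fin 5)) i ≠ i := by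
    by_contra hcon
    push Not at hcon
    exact (L.F.p_invol h L.ht L.ht2 L.htQ).1 (Subtype.ext (Equiv.ext hcon))
  have h8 : orderOf (L.t * L.F.a i) = 8 := by
    obtain ⟨k, hk⟩ : ∃ k, k = (L.F.p L.ht : Equiv.Perm (Fin 5)) i := ⟨_, rfl⟩
    rw [← hk] at hi
    have hact := L.F.act ⟨L.t, Subgroup.mem_centralizer_singleton_iff.2 L.ht⟩ i
    change Eqz z (L.t * L.F.a i * L.t⁻¹) (L.F.a ((L.F.p L.ht : Equiv.Perm (Fin 5)) i)) at hact
    rw [← hk, inv_eq_of_mul_eq_one_left L.ht2] at hact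
    have hq : Eqz z ((L.t * L.F.a i) ^ 2) (L.F.a k * L.F.a i) := by
      rw [pow_two, ← mul_assoc]
      exact h.eqz_mul (h.hQC _ (L.F.mem i)) hact (Or.inl rfl)
    have hsq : (L.t * L.F.a i) ^ 4 = z := by
      rw [show 4 = 2 * 2 from rfl, pow_mul, pow_two (_ ^ 2),
        h.eqz_sq (Q.mul_mem (L.F.mem k) (L.F.mem i)) hq, L.F.sq4 h k i hi]
    haveI : Fact (Nat.Prime 2) := ⟨Nat.prime_two⟩
    refine orderOf_eq_prime_pow (p := 2) (n := 2) ?_ ?_
    · rw [show 2 ^ 2 = 4 from rfl, hsq]; exact h.z_ne_one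
    · rw [show 2 ^ (2 + 1) = 4 * 2 from rfl, pow_mul, hsq, pow_two, h.zz]
  intro n hn
  simp only [Finset.mem_insert, Finset.mem_singleton] at hn
  rcases hn with rfl | rfl | rfl | rfl | rfl | rfl | rfl | rfl | rfl | rfl | rfl
  · exact ⟨1, orderOf_one⟩
  · exact ⟨z, h.hz⟩
  · exact ⟨L.s, L.hs3⟩
  · exact ⟨_, h4 _ _ hjf.symm⟩
  · exact ⟨f, hf⟩
  · exact ⟨_, hpow _ 2 6 h12 two_pos⟩
  · exact ⟨x7, hx7⟩
  · exact ⟨_, h8⟩
  · exact ⟨_, h10⟩
  · exact ⟨_, h12⟩
  · exact ⟨_, h15⟩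

/-- The set of element orders. -/
theorem spectrum (h : Core z Q) : Set.range (orderOf : G → ℕ) =
    (({1, 2, 3, 4, 5, 6, 7, 8, 10, 12, 15} : Finset ℕ) : Set ℕ) := by
  obtain ⟨L⟩ := h.exists_locdata
  obtain ⟨X0, c⟩ := L.exists_comp h
  ext n
  constructor
  · rintro ⟨x, rfl⟩
    exact orderOf_cases h L c x
  · exact fun hn => exists_order h n hn

end CfsgLib.HallJankoSpectrum
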