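import Cfsg.Agent.HallJankoSpectrum.Data
import Cfsg.Agent.Mathieu.HallJanko

/-!
Checks for the centraliser of an involution of the group of Hall and Janko on one hundred points.
-/

set_option autoImplicit false
set_option maxRecDepth 100000

namespace CfsgLib.HallJankoSpectrum.Data

open CfsgLib.Mathieu CfsgLib.Mathieu.HallJanko

/-- The tables agree. -/
def eqT (a b : ℕ) : Bool := allBelow 100 fun x => app a x == app b x

/-- `e` is the conjugate of `p` under `g`. -/
def conjT (g p e : ℕ) : Bool := allBelow 100 fun x => app e (app g x) == app g (app p x)

/-- The tables commute. -/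
def commT (a b : ℕ) : Bool := allBelow 100 fun x => app a (app b x) == app b (app a x)

/-- `c` is the product of `a` and `b`. -/
def mulT (a b c : ℕ) : Bool := allBelow 100 fun x => app c x == app a (app b x)

/-- The table of the identity. -/
def idT (a : ℕ) : Bool := allBelow 100 fun x => app a x == x

/-- The generators. -/
def gensT : List ℕ := level0.gens

/-- The elements given by the program. -/
def wordEnv : List ℕ := slp 100 gensT wordSteps

/-- A member of the class. -/
def clsAt (k : ℕ) : ℕ := cls.getD k 0

/-- The normal subgroup. -/
def qList : List ℕ := slp 100 (zT :: aTab) qSteps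

theorem words_mem : ∀ t ∈ [zT, threeT, fiveT, otherT], t ∈ wordEnv := by decide +kernel

theorem cls_zero : eqT zT (clsAt 0) = true := by decide +kernel

theorem tree_ok : allBelow 314 (fun k =>
    decide ((tree.getD k (0, 0)).1 ≤ k) && decide ((tree.getD k (0, 0)).2 < 5) &&
      conjT (gensT.getD (tree.getD k (0, 0)).2 0) (clsAt (tree.getD k (0, 0)).1) (clsAt (k + 1))) =
    true := by decide +kernel

theorem closed_ok : allBelow 315 (fun k => allBelow 5 fun j =>
    decide ((images.getD k []).getD j 0 < 315) &&
      conjT (gensT.getD j 0) (clsAt k) (clsAt ((images.getD k []).getD j 0))) = true := by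
  decide +kernel

theorem cls_distinct : allBelow 315 (fun j => allBelow j fun i => !eqT (clsAt i) (clsAt j)) = true := by
  decide +kernel

theorem gensT_length : gensT.length = 5 := by decide +kernel

theorem aTab_spec : allBelow 5 (fun i => mulT (aTab.getD i 0) zT (azTab.getD i 0)) = true := by
  decide +kernel

/-- The pairs lie in the class and commute with the involution. -/
theorem pairs_in : allBelow 5 (fun i => commT (aTab.getD i 0) zT && !eqT (aTab.getD i 0) zT &&
    (List.range 315).any fun k => eqT (aTab.getD i 0) (clsAt k)) = true := by decide +kernel

/-- The members of the class commuting with the involution. -/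
theorem comm_cases : allBelow 315 (fun k => !commT (clsAt k) zT || eqT (clsAt k) zT ||
    (List.range 5).any fun i => eqT (clsAt k) (aTab.getD i 0) || eqT (clsAt k) (azTab.getD i 0)) =
    true := by decide +kernel

theorem pairs_distinct : allBelow 5 (fun j => allBelow 5 fun i => decide (i = j) ||
    !(eqT (aTab.getD i 0) (aTab.getD j 0) || eqT (aTab.getD i 0) (azTab.getD j 0))) = true := by
  decide +kernel

theorem qList_length : qList.length = 32 := by decide +kernel

theorem q_distinct : allBelow 32 (fun j => allBelow j fun i =>
    !eqT (qList.getD i 0) (qList.getD j 0)) = true := by decide +kernel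

theorem q_closed : allBelow 32 (fun i => allBelow 32 fun j =>
    (List.range 32).any fun k => mulT (qList.getD i 0) (qList.getD j 0) (qList.getD k 0)) = true := by
  decide +kernel

theorem q_one : (List.range 32).any (fun k => idT (qList.getD k 0)) = true := by decide +kernel

theorem q_facts : allBelow 32 (fun i =>
    commT (qList.getD i 0) zT &&
    allBelow 5 (fun l => conjT (qList.getD i 0) (aTab.getD l 0) (aTab.getD l 0) ||
      conjT (qList.getD i 0) (aTab.getD l 0) (azTab.getD l 0)) &&
    (allBelow 100 (fun x => app (qList.getD i 0) (app (qList.getD i 0) x) == x) ||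
      mulT (qList.getD i 0) (qList.getD i 0) zT) &&
    (idT (qList.getD i 0) || eqT (qList.getD i 0) zT ||
      (List.range 32).any fun j => !commT (qList.getD i 0) (qList.getD j 0)) &&
    allBelow 32 fun j => commT (qList.getD i 0) (qList.getD j 0) ||
      allBelow 100 fun x => app (qList.getD i 0) (app (qList.getD j 0) x) ==
        app (qList.getD j 0) (app (qList.getD i 0) (app zT x))) = true := by decide +kernel

theorem three_ok : (commT threeT zT && allBelow 5 fun i =>
    conjT threeT (aTab.getD i 0) (aTab.getD (threeP.getD i 0).1 0) ||
      conjT threeT (aTab.getD i 0) (azTab.getD (threeP.getD i 0).1 0)) = true := by decide +kernel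

theorem five_ok : (commT fiveT zT && allBelow 5 fun i =>
    conjT fiveT (aTab.getD i 0) (aTab.getD (fiveP.getD i 0).1 0) ||
      conjT fiveT (aTab.getD i 0) (azTab.getD (fiveP.getD i 0).1 0)) = true := by decide +kernel

theorem other_ok : (mulT otherT (qList.getD otherQ 0) otherInv && decide (otherQ < 32) &&
    !idT otherInv && !idT zT &&
    allBelow 100 (fun x => app otherInv (app otherInv x) == x) &&
    allBelow 100 (fun x => app zT (app zT x) == x) &&
    allBelow 315 fun k => !eqT otherInv (clsAt k)) = true := by decide +kernel

end CfsgLib.HallJankoSpectrum.Data
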