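import Cfsg.Agent.HallJankoSpectrum.Fusion

/-!
# The frame hypotheses in a simple group with the centraliser of Hall–Janko shape
-/

set_option autoImplicit false
set_option linter.style.haveILetI false

namespace CfsgLib.HallJankoSpectrum

open CfsgLib.HallJanko (Eqz)

/-- An involution of a group with two non-commuting conjugates in a Sylow 2-subgroup has a
further conjugate commuting with it. -/
theorem exists_commuting_conj {G : Type*} [Group G] {z w : G} (hz : z * z = 1)
    (hzw : IsConj z w) (hne : w ≠ z) {k : ℕ} (hk : (z * w) ^ (2 ^ k) = 1) :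
    ∃ s, IsConj z s ∧ s * z = z * s ∧ s ≠ z := by
  classical
  have hw : w * w = 1 := by
    obtain ⟨g, rfl⟩ := isConj_iff.1 hzw
    rw [show g * z * g⁻¹ * (g * z * g⁻¹) = g * (z * z) * g⁻¹ by group, hz, mul_one, mul_inv_cancel]
  induction k with
  | zero =>
    rw [pow_zero, pow_one] at hk
    exact absurd ((inv_eq_of_mul_eq_one_right hk).symm.trans (inv_eq_of_mul_eq_one_right hz)) hne
  | succ k ih =>
    by_cases h1 : (z * w) ^ (2 ^ k) = 1
    · exact ih h1
    obtain ⟨r, hr⟩ : ∃ r, r = (z * w) ^ (2 ^ k) := ⟨_, rfl⟩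
    have hr2 : r⁻¹ = r := inv_eq_of_mul_eq_one_right (by
      rw [hr, ← pow_add, ← two_mul, ← pow_succ']; exact hk)
    have hinv : ∀ n : ℕ, z * (z * w) ^ n * z = ((z * w) ^ n)⁻¹ := by
      intro n
      have hzi := inv_eq_of_mul_eq_one_right hz
      calc z * (z * w) ^ n * z = z * (z * w) ^ n * z⁻¹ := by rw [hzi]
        _ = (z * (z * w) * z⁻¹) ^ n := conj_pow.symm
        _ = ((z * w) ^ n)⁻¹ := by
            rw [← inv_pow, mul_inv_rev, hzi, inv_eq_of_mul_eq_one_right hw, ← mul_assoc z z w, hz,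
              one_mul]
    rcases k with _ | k
    · rw [pow_zero, pow_one] at hr
      refine ⟨w, hzw, ?_, hne⟩
      rw [hr, mul_inv_rev, inv_eq_of_mul_eq_one_right hz, inv_eq_of_mul_eq_one_right hw] at hr2
      exact hr2
    · obtain ⟨q, hq⟩ : ∃ q, q = (z * w) ^ (2 ^ k) := ⟨_, rfl⟩
      have hrq : r = q * q := by rw [hr, hq, ← pow_add, pow_succ, mul_two]
      have hzr : z * r * z = r := by
        have := hinv (2 ^ (k + 1))
        rwa [← hr, hr2] at this
      refine ⟨q * z * q⁻¹, isConj_iff.2 ⟨q, rfl⟩, ?_, ?_⟩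
      · have e : q * z * q⁻¹ = r * z := by
          have := hinv (2 ^ k)
          rw [← hq] at this
          rw [hrq, ← this]
          calc q * z * (z * q * z) = q * (z * z) * q * z := by group
            _ = q * q * z := by rw [hz, mul_one]
        rw [e, mul_assoc r z z, hz, mul_one, ← mul_assoc, hzr]
      · intro e
        apply h1
        have := hinv (2 ^ k)
        rw [← hq] at this
        have e2 : q * z * q⁻¹ = r * z := by
          rw [hrq, ← this]
          calc q * z * (z * q * z) = q * (z * z) * q * z := by group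
            _ = q * q * z := by rw [hz, mul_one]
        rw [e2] at e
        rw [← hr]
        exact mul_eq_right.1 e

theorem core_of_frozen {G : Type*} [Group G] [Finite G] [IsSimpleGroup G] (t : G)
    (ht : orderOf t = 2) (Q : Subgroup (Subgroup.centralizer ({t} : Set G))) [Q.Normal]
    (hQ : Cfsg.IsExtraspecial 2 Q) (hcard : Nat.card Q = 32)
    (hminus : ∀ E : Subgroup Q, Cfsg.IsElementaryAbelian 2 E → Nat.card E ≤ 2 ^ 2)
    (h2c : Subgroup.centralizer (Q : Set (Subgroup.centralizer ({t} : Set G))) ≤ Q)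
    (e : (Subgroup.centralizer ({t} : Set G)) ⧸ Q ≃* alternatingGroup (Fin 5))
    (hcl : ∃ x y : G, orderOf x = 2 ∧ orderOf y = 2 ∧ ¬ IsConj x y) :
    CfsgLib.HallJanko.Core t (Q.map (Subgroup.centralizer ({t} : Set G)).subtype) := by
  classical
  haveI := Fact.mk Nat.prime_two
  obtain ⟨ht1, htt⟩ := CfsgLib.Small.orderOf_eq_two_iff_sq.1 ht
  have hmem : ∀ {g : G}, g ∈ (Subgroup.centralizer ({t} : Set G)) ↔ g * t = t * g :=
    Subgroup.mem_centralizer_singleton_iff
  obtain ⟨Q', hQ'⟩ : ∃ Q' : Subgroup G, Q' = Q.map (Subgroup.centralizer ({t} : Set G)).subtype :=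
    ⟨_, rfl⟩
  have hmap : ∀ {g : G}, g ∈ Q' ↔ ∃ hg : g ∈ (Subgroup.centralizer ({t} : Set G)),
      (⟨g, hg⟩ : (Subgroup.centralizer ({t} : Set G))) ∈ Q := by
    intro g
    rw [hQ']
    constructor
    · rintro ⟨q, hq, rfl⟩; exact ⟨q.2, hq⟩
    · rintro ⟨hg, hq⟩; exact ⟨_, hq, rfl⟩
  have hzQ : (⟨t, hmem.2 rfl⟩ : Subgroup.centralizer ({t} : Set G)) ∈ Q :=
    h2c (Subgroup.mem_centralizer_iff.2 fun q _ => Subtype.ext (hmem.1 q.2))
  have hcen : ∀ q : Q, q ∈ Subgroup.center Q →
      ((q : Subgroup.centralizer ({t} : Set G)) : G) = 1 ∨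
      ((q : Subgroup.centralizer ({t} : Set G)) : G) = t := by
    intro q hq
    have hzc : (⟨_, hzQ⟩ : Q) ∈ Subgroup.center Q :=
      Subgroup.mem_center_iff.2 fun p => Subtype.ext (Subtype.ext (hmem.1 p.1.2))
    obtain ⟨w, -, huniq⟩ := (Nat.card_eq_two_iff' (1 : Subgroup.center Q)).1 hQ.2
    by_cases h1 : (⟨q, hq⟩ : Subgroup.center Q) = 1
    · exact Or.inl (congrArg (fun a : Subgroup.center Q => a.1.1.1) h1)
    · exact Or.inr (congrArg (fun a : Subgroup.center Q => a.1.1.1)
        ((huniq _ h1).trans (huniq ⟨_, hzc⟩ fun e' => ht1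
          (congrArg (fun a : Subgroup.center Q => a.1.1.1) e')).symm))
  let f : Subgroup.centralizer ({t} : Set G) →* alternatingGroup (Fin 5) :=
    e.toMonoidHom.comp (QuotientGroup.mk' Q)
  have hsurj : Function.Surjective f := e.surjective.comp (QuotientGroup.mk'_surjective Q)
  have hker : ∀ x, f x = 1 ↔ x ∈ Q := fun x => by
    show e (QuotientGroup.mk' Q x) = 1 ↔ _
    rw [MulEquiv.map_eq_one_iff, QuotientGroup.mk'_apply, QuotientGroup.eq_one_iff]
  let φ : Q →* G := (Subgroup.centralizer ({t} : Set G)).subtype.comp Q.subtype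
  have hφ : Function.Injective φ := fun a b hab => Subtype.ext (Subtype.ext hab)
  have h : Shape t Q' :=
    { hz := htt, hz1 := ht1
      hQC := fun q hq => hmem.1 (hmap.1 hq).1
      hn := fun c hc q hq => by
        obtain ⟨hq', hqQ⟩ := hmap.1 hq
        rw [hQ']
        exact ⟨⟨c, hmem.2 hc⟩ * ⟨q, hq'⟩ * ⟨c, hmem.2 hc⟩⁻¹,
          (inferInstance : Q.Normal).conj_mem _ hqQ _, rfl⟩
      hcard := by rw [hQ', Subgroup.card_map_of_injective (Subgroup.subtype_injective _), hcard]
      hzQ := hmap.2 ⟨_, hzQ⟩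
      hsq := fun q hq => by
        obtain ⟨hq', hqQ⟩ := hmap.1 hq
        have hc := hcen _ (CfsgLib.ExtraspecialBasic.pow_mem_center (p := 2) hQ (⟨_, hqQ⟩ : Q))
        simpa [pow_two] using hc
      hCQ := fun c hc hcq => hmap.2 ⟨hmem.2 hc, h2c (Subgroup.mem_centralizer_iff.2 fun q hq =>
        Subtype.ext (hcq _ (hmap.2 ⟨q.2, hq⟩)).symm)⟩
      hquot := ⟨f, hsurj, fun c => by
        rw [hker, hmap]
        exact ⟨fun hq => ⟨c.2, hq⟩, fun ⟨_, hq⟩ => hq⟩⟩
      hminus := fun E hE hsq => by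
        have hEr : E ≤ φ.range := fun x hx => by
          obtain ⟨hx', hxQ⟩ := hmap.1 (hE hx)
          exact ⟨⟨_, hxQ⟩, rfl⟩
        rw [← Subgroup.map_comap_eq_self hEr, Subgroup.card_map_of_injective hφ]
        refine hminus _ ⟨⟨⟨fun a b => Subtype.ext (hφ ?_)⟩⟩, fun a ha => hφ ?_⟩
        · show φ (a * b : Q) = φ (b * a : Q)
          rw [map_mul, map_mul]
          have e1 := hsq _ a.2
          have e2 := hsq _ b.2
          have e3 := hsq _ (E.mul_mem a.2 b.2)
          calc φ a * φ b = (φ a * φ b)⁻¹ := (inv_eq_of_mul_eq_one_right e3).symm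
            _ = φ b * φ a := by
                rw [mul_inv_rev, inv_eq_of_mul_eq_one_right e1, inv_eq_of_mul_eq_one_right e2]
        · rw [map_pow, map_one, pow_two]
          exact hsq _ ha }
  obtain ⟨s, hts, hst, hne⟩ : ∃ s, IsConj t s ∧ s * t = t * s ∧ s ≠ t := by
    have hp : IsPGroup 2 (Subgroup.zpowers t) := by
      refine IsPGroup.of_card (n := 1) ?_
      rw [Nat.card_zpowers, ht, pow_one]
    obtain ⟨P, hP⟩ := hp.exists_le_sylow
    have htP : t ∈ P := hP (Subgroup.mem_zpowers t)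
    by_contra hnone
    obtain ⟨N, hN, hodd, hcomm⟩ := Cfsg.Agent.S0215.result P t ht htP (by
      intro g hg
      by_contra hne
      obtain ⟨k, hk⟩ := P.2 ⟨t * (g * t * g⁻¹), P.mul_mem htP hg⟩
      exact hnone (exists_commuting_conj htt (isConj_iff.2 ⟨g, rfl⟩) hne
        (k := k) (congrArg Subtype.val hk)))
    have hall : ∀ g : G, t * g = g * t := by
      rcases IsSimpleGroup.eq_bot_or_eq_top_of_normal N hN with rfl | rfl
      · intro g
        have := Subgroup.mem_bot.1 (hcomm g)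
        rwa [mul_inv_eq_one, mul_inv_eq_iff_eq_mul] at this
      · exfalso
        rw [Subgroup.card_top] at hodd
        exact Nat.not_even_iff_odd.2 hodd (even_iff_two_dvd.2 (ht ▸ orderOf_dvd_natCard t))
    have hn' : Q'.Normal := ⟨fun q hq g => h.hn g (hall g).symm q hq⟩
    rcases IsSimpleGroup.eq_bot_or_eq_top_of_normal Q' hn' with hb | htop
    · have := h.hcard
      rw [hb, Subgroup.card_bot] at this
      omega
    · obtain ⟨c, hc⟩ := hsurj altTwo
      have e1 : f c = 1 := (hker c).2 (by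
        obtain ⟨_, hc'⟩ := hmap.1 (show (c : G) ∈ Q' by rw [htop]; trivial)
        exact hc')
      rw [e1] at hc
      exact absurd hc.symm (by decide +kernel)
  obtain ⟨u, hu, huz, hconj⟩ := h.exists_conj_mem hts hst hne
  obtain ⟨hu', huQ⟩ := hmap.1 hu
  obtain ⟨g, hg, hg5⟩ : ∃ g : Subgroup.centralizer ({t} : Set G), orderOf g = 5 ∧ True := by
    haveI := Fact.mk (show Nat.Prime 5 by norm_num)
    obtain ⟨g, hg⟩ := exists_prime_orderOf_dvd_card' (G := Subgroup.centralizer ({t} : Set G)) 5 (by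
      refine dvd_trans ?_ (Subgroup.card_range_dvd f)
      rw [MonoidHom.range_eq_top.2 hsurj, Subgroup.card_top, nat_card_alternatingGroup, Nat.card_fin]
      decide)
    exact ⟨g, hg, trivial⟩
  refine core_of_shape ht Q hQ hcard e ⟨u, hu'⟩ g huQ huz hconj ?_ hcl
  have hfix : ¬ Eqz t ((g : G) * u * (g : G)⁻¹) u := fun hE => by
    have := h.fixed_five (hmem.1 g.2) (by rw [Subgroup.orderOf_coe, hg]) hu hE
    have hu2 : u ∈ ({1, t} : Set G) := by
      obtain ⟨n, rfl⟩ := Subgroup.mem_zpowers_iff.1 this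
      rcases Int.emod_two_eq_zero_or_one n with hn | hn
      · left
        rw [← orderOf_dvd_iff_zpow_eq_one, ht]
        exact Int.dvd_of_emod_eq_zero hn
      · right
        rw [Set.mem_singleton_iff, ← zpow_mod_orderOf, ht, show n % ((2 : ℕ) : ℤ) = 1 from hn,
          zpow_one]
    rcases hu2 with rfl | rfl
    · obtain ⟨c, hc⟩ := isConj_iff.1 hconj
      exact ht1 (conj_eq_one_iff.1 hc)
    · exact huz rfl
  exact ⟨fun e => hfix (Or.inl e), fun e => hfix (Or.inr e)⟩

end CfsgLib.HallJankoSpectrum
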