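import Cfsg.Agent.HallJankoSpectrum.Checks
import Cfsg.Agent.HallJanko.Frame
import Cfsg.Agent.GroupBasics.Conjugates
import Cfsg.Agent.Small.KleinSylow

/-!
# The involution centraliser of the group of Hall and Janko on one hundred points
-/

set_option autoImplicit false
set_option linter.style.haveILetI false

namespace CfsgLib.HallJankoSpectrum

open CfsgLib.Mathieu CfsgLib.Mathieu.HallJanko CfsgLib.HallJankoSpectrum.Data
open Equiv (Perm)

/-- The table represents the element. -/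
def RH (x : hj) (t : ℕ) : Prop := Rep (Equiv.refl (Fin 100)) (x : Perm (Fin 100)) t

theorem RH.app {x : hj} {t : ℕ} (h : RH x t) (i : Fin 100) :
    CfsgLib.Mathieu.app t i.1 = ((x : Perm (Fin 100)) i).1 := h i

theorem RH.ext {x y : hj} {a b : ℕ} (hx : RH x a) (hy : RH y b) (h : eqT a b = true) : x = y := by
  refine Subtype.ext (Equiv.ext fun i => Fin.ext ?_)
  rw [← hx.app, ← hy.app]
  simpa using allBelow_iff.1 h i.1 i.2

theorem RH.eqT_of_eq {x y : hj} {a b : ℕ} (hx : RH x a) (hy : RH y b) (h : x = y) :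
    eqT a b = true := by
  subst h
  refine allBelow_iff.2 fun i hi => ?_
  rw [beq_iff_eq, hx.app ⟨i, hi⟩, hy.app ⟨i, hi⟩]

theorem RH.mul_eq {x y w : hj} {a b c : ℕ} (hx : RH x a) (hy : RH y b) (hw : RH w c)
    (h : mulT a b c = true) : w = x * y := by
  refine Subtype.ext (Equiv.ext fun i => Fin.ext ?_)
  have := allBelow_iff.1 h i.1 i.2
  rw [beq_iff_eq, hw.app, hy.app, hx.app] at this
  exact this

theorem RH.mul_exists {x y : hj} {a b c : ℕ} (hx : RH x a) (hy : RH y b)
    (h : mulT a b c = true) : RH (x * y) c := fun i => by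
  have := allBelow_iff.1 h i.1 i.2
  rw [beq_iff_eq] at this
  show CfsgLib.Mathieu.app c i.1 = ((x : Perm (Fin 100)) ((y : Perm (Fin 100)) i)).1
  rw [this, hy.app, hx.app]

theorem RH.conj {g x : hj} {tg tp te : ℕ} (hg : RH g tg) (hx : RH x tp)
    (h : conjT tg tp te = true) : RH (g * x * g⁻¹) te := fun i => by
  have := allBelow_iff.1 h ((g : Perm (Fin 100))⁻¹ i).1 ((g : Perm (Fin 100))⁻¹ i).2
  rw [beq_iff_eq, hg.app, hx.app, hg.app, perm_apply_inv] at this
  exact this

theorem RH.comm {x y : hj} {a b : ℕ} (hx : RH x a) (hy : RH y b) (h : commT a b = true) :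
    x * y = y * x := by
  refine Subtype.ext (Equiv.ext fun i => Fin.ext ?_)
  have := allBelow_iff.1 h i.1 i.2
  rw [beq_iff_eq, hy.app, hx.app, hx.app, hy.app] at this
  exact this

theorem RH.commT_of_comm {x y : hj} {a b : ℕ} (hx : RH x a) (hy : RH y b)
    (h : x * y = y * x) : commT a b = true := by
  refine allBelow_iff.2 fun i hi => ?_
  rw [beq_iff_eq, hy.app ⟨i, hi⟩, hx.app, hx.app ⟨i, hi⟩, hy.app]
  exact congrArg (fun u : hj => ((u : Perm (Fin 100)) ⟨i, hi⟩).1) h

theorem RH.idT_iff {x : hj} {a : ℕ} (hx : RH x a) : idT a = true ↔ x = 1 := by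
  constructor
  · intro h
    refine Subtype.ext (Equiv.ext fun i => Fin.ext ?_)
    have := allBelow_iff.1 h i.1 i.2
    rw [beq_iff_eq, hx.app] at this
    exact this
  · rintro rfl
    exact allBelow_iff.2 fun i hi => by rw [beq_iff_eq, hx.app ⟨i, hi⟩]; rfl

theorem RH.sq {x : hj} {a : ℕ} (hx : RH x a)
    (h : allBelow 100 (fun i => CfsgLib.Mathieu.app a (CfsgLib.Mathieu.app a i) == i) = true) :
    x * x = 1 := by
  refine Subtype.ext (Equiv.ext fun i => Fin.ext ?_)
  have := allBelow_iff.1 h i.1 i.2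
  rw [beq_iff_eq, hx.app, hx.app] at this
  exact this

theorem gen_mem {t : ℕ} (ht : t ∈ gensT) : InGroup (Equiv.refl (Fin 100)) hj t := by
  obtain ⟨σ, r⟩ := chain_perms.1 t ht
  exact ⟨σ, Subgroup.subset_closure ⟨t, ht, r⟩, r⟩

theorem exists_word {t : ℕ} (ht : t ∈ wordEnv) : ∃ x : hj, RH x t := by
  obtain ⟨σ, hσ, r⟩ := inGroup_slp (Equiv.refl (Fin 100)) wordSteps gensT (fun t ht => gen_mem ht) t ht
  exact ⟨⟨σ, hσ⟩, r⟩

theorem exists_gen {j : ℕ} (hj' : j < 5) : ∃ g : hj, RH g (gensT.getD j 0) := by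
  obtain ⟨σ, hσ, r⟩ := gen_mem (t := gensT.getD j 0) (by
    rw [List.getD_eq_getElem _ _ (by rw [gensT_length]; exact hj')]
    exact List.getElem_mem _)
  exact ⟨⟨σ, hσ⟩, r⟩

section

variable {z : hj} (hz : RH z zT)
include hz

theorem exists_cls : ∀ k, k < 315 → ∃ x : hj, RH x (clsAt k) ∧ IsConj z x := by
  intro k
  induction k using Nat.strong_induction_on with
  | _ k ih =>
    intro hk
    match k with
    | 0 =>
      refine ⟨z, fun i => ?_, IsConj.refl _⟩
      rw [← hz i]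
      exact (beq_iff_eq.1 (allBelow_iff.1 cls_zero i.1 i.2)).symm
    | k + 1 =>
      have h := allBelow_iff.1 tree_ok k (by omega)
      simp only [Bool.and_eq_true, decide_eq_true_eq] at h
      obtain ⟨⟨hp, hg⟩, hc⟩ := h
      obtain ⟨x, hx, hxz⟩ := ih _ (Nat.lt_succ_of_le hp) (by omega)
      obtain ⟨g, hg'⟩ := exists_gen hg
      exact ⟨g * x * g⁻¹, hg'.conj hx hc, hxz.trans (isConj_iff.2 ⟨g, rfl⟩)⟩

theorem cls_of_isConj {x : hj} (hx : IsConj z x) : ∃ k, k < 315 ∧ RH x (clsAt k) := by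
  obtain ⟨g, rfl⟩ := isConj_iff.1 hx
  obtain ⟨g, hg⟩ := g
  have hg' : g ∈ (Subgroup.closure {σ : Perm (Fin 100) | ∃ t ∈ Schreier.topGens chain,
      Rep (Equiv.refl (Fin 100)) σ t}).toSubmonoid := hg
  rw [Subgroup.closure_toSubmonoid_of_finite] at hg'
  suffices h : ∀ y : hj, (∃ k, k < 315 ∧ RH y (clsAt k)) →
      ∃ k, k < 315 ∧ Rep (Equiv.refl (Fin 100)) (g * (y : Perm (Fin 100)) * g⁻¹) (clsAt k) by
    obtain ⟨x, hx, -⟩ := exists_cls hz 0 (by norm_num)
    exact h z ⟨0, by norm_num, (RH.ext hz hx cls_zero) ▸ hx⟩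
  clear hx hg
  induction hg' using Submonoid.closure_induction with
  | mem σ hσ =>
    rintro y ⟨k, hk, hy⟩
    obtain ⟨t, ht, r⟩ := hσ
    obtain ⟨j, hj', rfl⟩ := List.getElem_of_mem (show t ∈ gensT from ht)
    rw [gensT_length] at hj'
    have h := allBelow_iff.1 (allBelow_iff.1 closed_ok k hk) j hj'
    simp only [Bool.and_eq_true, decide_eq_true_eq] at h
    refine ⟨_, h.1, ?_⟩
    have e := h.2
    rw [List.getD_eq_getElem gensT 0 (by rw [gensT_length]; exact hj')] at e
    exact RH.conj (g := ⟨σ, Subgroup.subset_closure ⟨_, ht, r⟩⟩) r hy e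
  | one =>
    rintro y ⟨k, hk, hy⟩
    exact ⟨k, hk, by simpa using (show Rep (Equiv.refl (Fin 100)) (y : Perm (Fin 100)) (clsAt k) from hy)⟩
  | mul a b ha hb iha ihb =>
    intro y hy
    have hb' : b ∈ hj := by
      show b ∈ (Subgroup.closure {σ : Perm (Fin 100) | ∃ t ∈ Schreier.topGens chain,
        Rep (Equiv.refl (Fin 100)) σ t}).toSubmonoid
      rw [Subgroup.closure_toSubmonoid_of_finite]
      exact hb
    obtain ⟨k, hk, hk'⟩ := ihb y hy
    have := iha ⟨b * (y : Perm (Fin 100)) * b⁻¹, hj.mul_mem (hj.mul_mem hb' y.2) (hj.inv_mem hb')⟩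
      ⟨k, hk, hk'⟩
    simpa [mul_assoc] using this

theorem card_centralizer_z : Nat.card (Subgroup.centralizer ({z} : Set hj)) = 1920 := by
  classical
  choose f hf hfc using exists_cls hz
  have hcar : (ConjClasses.mk z).carrier = Set.range (fun k : Fin 315 => f k.1 k.2) := by
    ext x
    rw [ConjClasses.mem_carrier_iff_mk_eq, ConjClasses.mk_eq_mk_iff_isConj]
    constructor
    · intro h
      obtain ⟨k, hk, hx⟩ := cls_of_isConj hz h.symm
      exact ⟨⟨k, hk⟩, RH.ext (hf k hk) hx (RH.eqT_of_eq hx hx rfl)⟩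
    · rintro ⟨k, rfl⟩
      exact (hfc k.1 k.2).symm
  have hinj : Function.Injective (fun k : Fin 315 => f k.1 k.2) := by
    have key : ∀ i j : Fin 315, i.1 < j.1 → f i.1 i.2 ≠ f j.1 j.2 := by
      intro i j hij e
      have h := allBelow_iff.1 (allBelow_iff.1 cls_distinct j.1 j.2) i.1 hij
      rw [RH.eqT_of_eq (hf _ i.2) (hf _ j.2) e] at h
      simp at h
    intro i j e
    rcases lt_trichotomy i.1 j.1 with h | h | h
    · exact absurd e (key i j h)
    · exact Fin.ext h
    · exact absurd e.symm (key j i h)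
  have h315 : (Subgroup.centralizer ({z} : Set hj)).index = 315 := by
    rw [← CfsgLib.GroupBasics.card_carrier_eq_index_centralizer, hcar,
      Set.ncard_range_of_injective hinj, Nat.card_fin]
  have := Subgroup.card_mul_index (Subgroup.centralizer ({z} : Set hj))
  rw [h315, card_hj] at this
  omega

end

/-- One step of generating by two permutations. -/
def genStep (L : List (Perm (Fin 5))) : List (Perm (Fin 5)) :=
  (L ++ L.map (· * ([0, 1, 2] : List (Fin 5)).formPerm) ++
    L.map (· * ([0, 2, 3, 1, 4] : List (Fin 5)).formPerm)).dedup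

theorem altFive_gen : ∀ σ : Perm (Fin 5), Perm.sign σ = 1 → σ ∈ genStep^[10] [1] := by
  decide +kernel

theorem threeP_eq : ∀ i : Fin 5, ([0, 1, 2] : List (Fin 5)).formPerm i = threeP.getD i.1 0 := by
  decide +kernel

theorem fiveP_eq : ∀ i : Fin 5, ([0, 2, 3, 1, 4] : List (Fin 5)).formPerm i = fiveP.getD i.1 0 := by
  decide +kernel

/-- The hypotheses on the centraliser hold in the group on one hundred points. -/
theorem exists_core_hj : ∃ (z : hj) (Q : Subgroup hj), CfsgLib.HallJanko.Core z Q := by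
  classical
  obtain ⟨z, hz⟩ := exists_word (words_mem zT (by simp))
  obtain ⟨c3, hc3⟩ := exists_word (words_mem threeT (by simp))
  obtain ⟨c5, hc5⟩ := exists_word (words_mem fiveT (by simp))
  obtain ⟨co, hco⟩ := exists_word (words_mem otherT (by simp))
  obtain ⟨⟨⟨⟨⟨⟨hmo, hoQ⟩, hone⟩, hzne⟩, hosq⟩, hzsq⟩, hocl⟩ := by
    have h := other_ok
    simp only [Bool.and_eq_true, decide_eq_true_eq, Bool.not_eq_true'] at h
    exact h
  have hz1 : z ≠ 1 := fun e => by rw [hz.idT_iff.2 e] at hzne; simp at hzne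
  have hzz : z * z = 1 := hz.sq hzsq
  have hzo : orderOf z = 2 := CfsgLib.Small.orderOf_eq_two_iff_sq.2 ⟨hz1, hzz⟩
  -- the five pairs
  have hA : ∀ i : Fin 5, ∃ a : hj, RH a (aTab.getD i.1 0) ∧ IsConj z a ∧ a * z = z * a ∧ a ≠ z := by
    intro i
    have h := allBelow_iff.1 pairs_in i.1 i.2
    simp only [Bool.and_eq_true, Bool.not_eq_true', List.any_eq_true, List.mem_range] at h
    obtain ⟨⟨hc, hne⟩, k, hk, hek⟩ := h
    obtain ⟨x, hx, hxz⟩ := exists_cls hz k hk
    have hxa : RH x (aTab.getD i.1 0) := fun y => by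
      rw [← hx y]
      exact beq_iff_eq.1 (allBelow_iff.1 hek y.1 y.2)
    exact ⟨x, hxa, hxz, hxa.comm hz hc, fun e => by rw [hxa.eqT_of_eq hz e] at hne; simp at hne⟩
  choose a ha haz hac hane using hA
  have haz' : ∀ i, RH (a i * z) (azTab.getD i.1 0) := fun i =>
    (ha i).mul_exists hz (allBelow_iff.1 aTab_spec i.1 i.2)
  have hzm : ∀ {x : hj}, RH x zT → x = z := fun hx => hx.ext hz (hx.eqT_of_eq hx rfl)
  have hcases : ∀ x : hj, IsConj z x → x * z = z * x → x ≠ z →
      ∃ i, CfsgLib.HallJanko.Eqz z x (a i) := by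
    intro x hx hxc hxne
    obtain ⟨k, hk, hxk⟩ := cls_of_isConj hz hx
    have h := allBelow_iff.1 comm_cases k hk
    simp only [Bool.or_eq_true, Bool.not_eq_true', List.any_eq_true, List.mem_range] at h
    rcases h with (h | h) | ⟨i, hi, h⟩
    · rw [hxk.commT_of_comm hz hxc] at h; simp at h
    · exact absurd (hxk.ext hz h) hxne
    · exact ⟨⟨i, hi⟩, h.imp (fun e => hxk.ext (ha ⟨i, hi⟩) e) fun e => hxk.ext (haz' ⟨i, hi⟩) e⟩
  have hdist : ∀ i j, CfsgLib.HallJanko.Eqz z (a i) (a j) → i = j := by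
    intro i j e
    have h := allBelow_iff.1 (allBelow_iff.1 pairs_distinct j.1 j.2) i.1 i.2
    simp only [Bool.or_eq_true, decide_eq_true_eq, Bool.not_eq_true', Bool.or_eq_false_iff] at h
    rcases h with h | ⟨h1, h2⟩
    · exact Fin.ext h
    · rcases e with e | e
      · rw [(ha i).eqT_of_eq (ha j) e] at h1; simp at h1
      · rw [(ha i).eqT_of_eq (haz' j) e] at h2; simp at h2
  -- the subgroup generated by the pairs
  obtain ⟨Q, hQdef⟩ : ∃ Q : Subgroup hj, Q = Subgroup.closure (insert z (Set.range a)) := ⟨_, rfl⟩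
  have hQrep : ∀ k, k < 32 → ∃ q ∈ Q, RH q (qList.getD k 0) := by
    intro k hk
    have henv : ∀ t ∈ zT :: aTab, InGroup (Equiv.refl (Fin 100)) (Q.map hj.subtype) t := by
      intro t ht
      rcases List.mem_cons.1 ht with rfl | ht
      · exact ⟨z.1, ⟨z, hQdef ▸ Subgroup.subset_closure (Set.mem_insert _ _), rfl⟩, hz⟩
      · obtain ⟨i, hi, rfl⟩ := List.getElem_of_mem ht
        have hi5 : i < 5 := hi.trans_le (le_of_eq (by decide +kernel))
        refine ⟨(a ⟨i, hi5⟩).1, ⟨a ⟨i, hi5⟩, hQdef ▸ Subgroup.subset_closure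
          (Set.mem_insert_of_mem _ ⟨_, rfl⟩), rfl⟩, ?_⟩
        have := ha ⟨i, hi5⟩
        rw [List.getD_eq_getElem _ _ hi] at this
        exact this
    obtain ⟨σ, ⟨q, hq, rfl⟩, r⟩ := inGroup_slp (Equiv.refl (Fin 100)) qSteps _ henv (qList.getD k 0)
      (show qList.getD k 0 ∈ qList by
        rw [List.getD_eq_getElem _ _ (by rw [qList_length]; exact hk)]
        exact List.getElem_mem _)
    exact ⟨q, hq, r⟩
  choose qf hqf hqr using hQrep
  have hQall : ∀ x ∈ Q, ∃ k, ∃ hk : k < 32, x = qf k hk := by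
    intro x hx
    rw [hQdef] at hx
    have hx' : x ∈ (Subgroup.closure (insert z (Set.range a))).toSubmonoid := hx
    rw [Subgroup.closure_toSubmonoid_of_finite] at hx'
    have hmem : ∀ y : hj, ∀ t ∈ qList, RH y t → ∃ k, ∃ hk : k < 32, y = qf k hk := by
      intro y t ht hy
      obtain ⟨k, hk, rfl⟩ := List.getElem_of_mem ht
      rw [qList_length] at hk
      rw [← List.getD_eq_getElem qList 0 (by rw [qList_length]; exact hk)] at hy
      exact ⟨k, hk, hy.ext (hqr k hk) (hy.eqT_of_eq hy rfl)⟩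
    clear hx
    induction hx' using Submonoid.closure_induction with
    | mem y hy =>
      have hsub : ∀ t ∈ zT :: aTab, t ∈ qList := by decide +kernel
      rcases hy with rfl | ⟨i, rfl⟩
      · exact hmem _ _ (hsub _ (by simp)) hz
      · refine hmem _ _ (hsub _ (List.mem_cons_of_mem _ ?_)) (ha i)
        have hlen : aTab.length = 5 := by decide +kernel
        rw [List.getD_eq_getElem _ _ (by rw [hlen]; exact i.2)]
        exact List.getElem_mem _
    | one =>
      obtain ⟨k, hk, e⟩ : ∃ k, k < 32 ∧ idT (qList.getD k 0) = true := by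
        simpa [List.any_eq_true] using q_one
      exact ⟨k, hk, ((hqr k hk).idT_iff.1 e).symm⟩
    | mul u v _ _ ihu ihv =>
      obtain ⟨i, hi, rfl⟩ := ihu
      obtain ⟨j, hj', rfl⟩ := ihv
      obtain ⟨k, hk, e⟩ : ∃ k, k < 32 ∧
          mulT (qList.getD i 0) (qList.getD j 0) (qList.getD k 0) = true := by
        simpa [List.any_eq_true] using allBelow_iff.1 (allBelow_iff.1 q_closed i hi) j hj'
      exact ⟨k, hk, ((hqr i hi).mul_eq (hqr j hj') (hqr k hk) e).symm⟩
  have hcardQ : Nat.card Q = 32 := by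
    rw [← Nat.card_fin 32]
    refine (Nat.card_congr (Equiv.ofBijective (fun k : Fin 32 => (⟨qf k.1 k.2, hqf k.1 k.2⟩ : Q))
      ⟨fun i j e => ?_, fun q => ?_⟩)).symm
    · have key : ∀ i j : Fin 32, i.1 < j.1 → qf i.1 i.2 ≠ qf j.1 j.2 := by
        intro i j hij e
        have h := allBelow_iff.1 (allBelow_iff.1 q_distinct j.1 j.2) i.1 hij
        rw [RH.eqT_of_eq (hqr _ i.2) (hqr _ j.2) e] at h
        simp at h
      have e' : qf i.1 i.2 = qf j.1 j.2 := congrArg Subtype.val e
      rcases lt_trichotomy i.1 j.1 with h | h | h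
      · exact absurd e' (key i j h)
      · exact Fin.ext h
      · exact absurd e'.symm (key j i h)
    · obtain ⟨k, hk, e⟩ := hQall q q.2
      exact ⟨⟨k, hk⟩, Subtype.ext e.symm⟩
  have hzQ : z ∈ Q := hQdef ▸ Subgroup.subset_closure (Set.mem_insert _ _)
  have hqfacts : ∀ q ∈ Q, q * z = z * q ∧
      (∀ l, CfsgLib.HallJanko.Eqz z (q * a l * q⁻¹) (a l)) ∧ (q * q = 1 ∨ q * q = z) ∧
      ((∀ p ∈ Q, q * p = p * q) → q = 1 ∨ q = z) ∧
      ∀ p ∈ Q, q * p = p * q ∨ q * p = p * q * z := by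
    intro q hq
    obtain ⟨i, hi, rfl⟩ := hQall q hq
    have h := allBelow_iff.1 q_facts i hi
    simp only [Bool.and_eq_true, Bool.or_eq_true, List.any_eq_true, List.mem_range,
      Bool.not_eq_true', allBelow_iff] at h
    obtain ⟨⟨⟨⟨h1, h2⟩, h3⟩, h4⟩, h5⟩ := h
    refine ⟨(hqr i hi).comm hz h1, fun l => ?_, ?_, fun hc => ?_, fun p hp => ?_⟩
    · rcases h2 l.1 l.2 with e | e
      · exact Or.inl (((hqr i hi).conj (ha l) e).ext (ha l) ((ha l).eqT_of_eq (ha l) rfl))
      · exact Or.inr (((hqr i hi).conj (ha l) e).ext (haz' l) ((haz' l).eqT_of_eq (haz' l) rfl))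
    · exact h3.imp (fun e => (hqr i hi).sq (allBelow_iff.2 e))
        fun e => hzm ((hqr i hi).mul_exists (hqr i hi) e)
    · rcases h4 with (e | e) | ⟨j, hj', e⟩
      · exact Or.inl ((hqr i hi).idT_iff.1 e)
      · exact Or.inr ((hqr i hi).ext hz e)
      · rw [(hqr i hi).commT_of_comm (hqr j hj') (hc _ (hqf j hj'))] at e
        simp at e
    · obtain ⟨j, hj', rfl⟩ := hQall p hp
      rcases h5 j hj' with e | e
      · exact Or.inl ((hqr i hi).comm (hqr j hj') e)
      · refine Or.inr (Subtype.ext (Equiv.ext fun x => Fin.ext ?_))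
        have := e x.1 x.2
        rw [beq_iff_eq, (hqr j hj').app, (hqr i hi).app, hz.app, (hqr i hi).app, (hqr j hj').app] at this
        exact this
  -- the action on the pairs
  have hC : ∀ (c : Subgroup.centralizer ({z} : Set hj)) (i : Fin 5),
      ∃ j, CfsgLib.HallJanko.Eqz z ((c : hj) * a i * (c : hj)⁻¹) (a j) := by
    intro c i
    have hcz : Commute (c : hj) z := Subgroup.mem_centralizer_singleton_iff.1 c.2
    refine hcases _ ((haz i).trans (isConj_iff.2 ⟨_, rfl⟩)) ?_ fun e => hane i ?_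
    · exact ((hcz.mul_left (show Commute (a i) z from hac i)).mul_left hcz.inv_left).eq
    · calc a i = (c : hj)⁻¹ * ((c : hj) * a i * (c : hj)⁻¹) * c := by group
        _ = z := by rw [e, mul_assoc, ← hcz.eq, inv_mul_cancel_left]
  have etr : ∀ {x y w : hj}, CfsgLib.HallJanko.Eqz z x y → CfsgLib.HallJanko.Eqz z y w →
      CfsgLib.HallJanko.Eqz z x w := by
    intro x y w hxy hyw
    rcases hxy with rfl | rfl
    · exact hyw
    · rcases hyw with rfl | rfl
      · exact Or.inr rfl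
      · exact Or.inl (by rw [mul_assoc, hzz, mul_one])
  have esymm : ∀ {x y : hj}, CfsgLib.HallJanko.Eqz z x y → CfsgLib.HallJanko.Eqz z y x := by
    intro x y hxy
    rcases hxy with rfl | rfl
    · exact Or.inl rfl
    · exact Or.inr (by rw [mul_assoc, hzz, mul_one])
  have econj : ∀ {g x y : hj}, g * z = z * g → CfsgLib.HallJanko.Eqz z x y →
      CfsgLib.HallJanko.Eqz z (g * x * g⁻¹) (g * y * g⁻¹) := by
    intro g x y hg hxy
    rcases hxy with rfl | rfl
    · exact Or.inl rfl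
    · refine Or.inr ?_
      have hg' : z * g⁻¹ = g⁻¹ * z := ((show Commute g z from hg).inv_left).eq.symm
      rw [← mul_assoc g y z, mul_assoc (g * y) z, hg', ← mul_assoc]
  choose pf hpf using hC
  have hmulp : ∀ (c d : Subgroup.centralizer ({z} : Set hj)) (i : Fin 5),
      pf (c * d) i = pf c (pf d i) := by
    intro c d i
    refine hdist _ _ (etr (esymm (hpf (c * d) i)) (etr ?_ (hpf c (pf d i))))
    have := econj (g := (c : hj)) (Subgroup.mem_centralizer_singleton_iff.1 c.2) (hpf d i)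
    rwa [show (c : hj) * ((d : hj) * a i * (d : hj)⁻¹) * (c : hj)⁻¹ =
      ((c * d : Subgroup.centralizer ({z} : Set hj)) : hj) * a i *
        ((c * d : Subgroup.centralizer ({z} : Set hj)) : hj)⁻¹ by
      rw [Subgroup.coe_mul]; group] at this
  have honep : ∀ i, pf 1 i = i := fun i => hdist _ _ (etr (esymm (hpf 1 i)) (Or.inl (by simp)))
  let φ : Subgroup.centralizer ({z} : Set hj) →* Perm (Fin 5) :=
    { toFun := fun c => ⟨pf c, pf c⁻¹, fun i => by rw [← hmulp, inv_mul_cancel, honep],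
        fun i => by rw [← hmulp, mul_inv_cancel, honep]⟩
      map_one' := Equiv.ext honep
      map_mul' := fun c d => Equiv.ext (hmulp c d) }
  have himg : ∀ (c : hj) (t : ℕ) (P : List (Fin 5)), RH c t →
      (commT t zT && allBelow 5 fun i => conjT t (aTab.getD i 0) (aTab.getD (P.getD i 0).1 0) ||
        conjT t (aTab.getD i 0) (azTab.getD (P.getD i 0).1 0)) = true →
      ∃ hc : c ∈ Subgroup.centralizer ({z} : Set hj), ∀ i : Fin 5, φ ⟨c, hc⟩ i = P.getD i.1 0 := by
    intro c t P hc h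
    simp only [Bool.and_eq_true, Bool.or_eq_true, allBelow_iff] at h
    refine ⟨Subgroup.mem_centralizer_singleton_iff.2 (hc.comm hz h.1), fun i => ?_⟩
    refine hdist _ _ (etr (esymm (hpf _ i)) ?_)
    show CfsgLib.HallJanko.Eqz z (c * a i * c⁻¹) _
    rcases h.2 i.1 i.2 with e | e
    · exact Or.inl ((hc.conj (ha i) e).ext (ha _) ((ha _).eqT_of_eq (ha _) rfl))
    · exact Or.inr ((hc.conj (ha i) e).ext (haz' _) ((haz' _).eqT_of_eq (haz' _) rfl))
  obtain ⟨h3m, h3⟩ := himg c3 _ threeP hc3 three_ok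
  obtain ⟨h5m, h5⟩ := himg c5 _ fiveP hc5 five_ok
  have hA5 : alternatingGroup (Fin 5) ≤ φ.range := by
    intro σ hσ
    have e3 : ([0, 1, 2] : List (Fin 5)).formPerm ∈ φ.range :=
      ⟨⟨c3, h3m⟩, Equiv.ext fun i => by rw [h3, threeP_eq]⟩
    have e5 : ([0, 2, 3, 1, 4] : List (Fin 5)).formPerm ∈ φ.range :=
      ⟨⟨c5, h5m⟩, Equiv.ext fun i => by rw [h5, fiveP_eq]⟩
    have : ∀ n, ∀ τ ∈ genStep^[n] [1], τ ∈ φ.range := by
      intro n
      induction n with
      | zero => intro τ hτ; simp at hτ; exact hτ ▸ one_mem _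
      | succ n ih =>
        intro τ hτ
        rw [Function.iterate_succ_apply', genStep, List.mem_dedup] at hτ
        simp only [List.mem_append, List.mem_map] at hτ
        rcases hτ with (hτ | ⟨u, hu, rfl⟩) | ⟨u, hu, rfl⟩
        · exact ih τ hτ
        · exact mul_mem (ih u hu) e3
        · exact mul_mem (ih u hu) e5
    exact this 10 σ (altFive_gen σ (Perm.mem_alternatingGroup.1 hσ))
  -- kernel and image
  have hQK : Q.subgroupOf (Subgroup.centralizer ({z} : Set hj)) ≤ φ.ker := by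
    intro c hc
    refine MonoidHom.mem_ker.2 (Equiv.ext fun i => ?_)
    show pf c i = i
    exact hdist _ _ (etr (esymm (hpf c i)) ((hqfacts c hc).2.1 i))
  have hQC : Q ≤ Subgroup.centralizer ({z} : Set hj) := fun q hq =>
    Subgroup.mem_centralizer_singleton_iff.2 (hqfacts q hq).1
  have hQ32 : Nat.card (Q.subgroupOf (Subgroup.centralizer ({z} : Set hj))) = 32 := by
    rw [Nat.card_congr (Subgroup.subgroupOfEquivOfLe hQC).toEquiv, hcardQ]
  have hk32 := Subgroup.card_le_card_group (Q.subgroupOf (Subgroup.centralizer ({z} : Set hj)))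
  have hkle : 32 ≤ Nat.card φ.ker := hQ32 ▸ Subgroup.card_le_of_le hQK
  have hmul : Nat.card φ.ker * Nat.card φ.range = 1920 := by
    rw [← Subgroup.index_ker, Subgroup.card_mul_index, card_centralizer_z hz]
  have hA60 : Nat.card (alternatingGroup (Fin 5)) = 60 := by
    rw [nat_card_alternatingGroup, Nat.card_fin]; rfl
  have hrge : 60 ≤ Nat.card φ.range := hA60 ▸ Subgroup.card_le_of_le hA5
  have hk : Nat.card φ.ker = 32 := by
    have := hmul ▸ Nat.mul_le_mul_left (Nat.card φ.ker) hrge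
    omega
  have hr : Nat.card φ.range = 60 := by
    rw [hk] at hmul; omega
  have hkerQ : φ.ker = Q.subgroupOf (Subgroup.centralizer ({z} : Set hj)) :=
    (Subgroup.eq_of_le_of_card_ge hQK (by rw [hk, hQ32])).symm
  have hrange : φ.range = alternatingGroup (Fin 5) :=
    (Subgroup.eq_of_le_of_card_ge hA5 (by rw [hr, hA60])).symm
  have hker : ∀ c : Subgroup.centralizer ({z} : Set hj), φ c = 1 ↔ (c : hj) ∈ Q := fun c => by
    rw [← MonoidHom.mem_ker, hkerQ, Subgroup.mem_subgroupOf]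
  refine ⟨z, Q,
    { hz := hzo
      hQC := fun q hq => (hqfacts q hq).1
      hn := fun c hc q hq => ?_
      hcard := hcardQ
      hzQ := hzQ
      hcenter := fun q hq => (hqfacts q hq).2.2.2.1
      hcomm := fun p hp q hq => (hqfacts p hp).2.2.2.2 q hq
      hsq := fun q hq => (hqfacts q hq).2.2.1
      hCQ := fun c hc hcq => ?_
      hquot := ?_
      hnwc := ⟨a 0, hQdef ▸ Subgroup.subset_closure (Set.mem_insert_of_mem _ ⟨0, rfl⟩), hane 0, haz 0⟩
      hcl := ?_ }⟩
  · have hcm : c ∈ Subgroup.centralizer ({z} : Set hj) := Subgroup.mem_centralizer_singleton_iff.2 hc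
    have hk' : (⟨q, hQC hq⟩ : Subgroup.centralizer ({z} : Set hj)) ∈ φ.ker := by
      rw [hkerQ]; exact hq
    have := (inferInstance : φ.ker.Normal).conj_mem _ hk' ⟨c, hcm⟩
    rw [hkerQ] at this
    exact this
  · refine (hker ⟨c, Subgroup.mem_centralizer_singleton_iff.2 hc⟩).1 (Equiv.ext fun i => ?_)
    refine hdist _ _ (etr (esymm (hpf _ i)) (Or.inl ?_))
    show c * a i * c⁻¹ = a i
    rw [hcq _ (hQdef ▸ Subgroup.subset_closure (Set.mem_insert_of_mem _ ⟨i, rfl⟩)), mul_inv_cancel_right]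
  · refine ⟨φ.codRestrict (alternatingGroup (Fin 5)) fun c => (by rw [← hrange]; exact ⟨c, rfl⟩), fun σ => ?_,
      fun c => ?_⟩
    · obtain ⟨c, hc⟩ : (σ : Perm (Fin 5)) ∈ φ.range := by rw [hrange]; exact σ.2
      exact ⟨c, Subtype.ext hc⟩
    · rw [← hker c]
      exact ⟨fun e => congrArg Subtype.val e, fun e => Subtype.ext e⟩
  · obtain ⟨q, hq⟩ : ∃ q : hj, RH q (qList.getD otherQ 0) := ⟨_, hqr otherQ hoQ⟩
    have ht : RH (co * q) otherInv := hco.mul_exists hq hmo
    refine ⟨z, co * q, hzo, CfsgLib.Small.orderOf_eq_two_iff_sq.2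
      ⟨fun e => ?_, ht.sq hosq⟩, fun e => ?_⟩
    · rw [ht.idT_iff.2 e] at hone; simp at hone
    · obtain ⟨k, hk', hk''⟩ := cls_of_isConj hz e
      have := allBelow_iff.1 hocl k hk'
      rw [ht.eqT_of_eq hk'' rfl] at this
      simp at this

end CfsgLib.HallJankoSpectrum
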