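import Cfsg.Agent.HallJanko.Setup

/-!
# The frame hypotheses from the shape of the involution centraliser
-/

set_option autoImplicit false
set_option linter.style.haveILetI false

namespace CfsgLib.HallJankoSpectrum

open CfsgLib.HallJanko

theorem center_altFive : ∀ a : alternatingGroup (Fin 5), (∀ b, a * b = b * a) → a = 1 := by
  decide +kernel

theorem core_of_shape {G : Type*} [Group G] [Finite G] {z : G} (hz : orderOf z = 2)
    (Q : Subgroup (Subgroup.centralizer ({z} : Set G))) [Q.Normal]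
    (hQ : Cfsg.IsExtraspecial 2 Q) (hcard : Nat.card Q = 32)
    (e : (Subgroup.centralizer ({z} : Set G)) ⧸ Q ≃* alternatingGroup (Fin 5))
    (u c : Subgroup.centralizer ({z} : Set G)) (hu : u ∈ Q) (huz : (u : G) ≠ z)
    (hconj : IsConj z (u : G))
    (hmove : (c : G) * u * (c : G)⁻¹ ≠ u ∧ (c : G) * u * (c : G)⁻¹ ≠ u * z)
    (hcl : ∃ x y : G, orderOf x = 2 ∧ orderOf y = 2 ∧ ¬ IsConj x y) :
    Core z (Q.map (Subgroup.centralizer ({z} : Set G)).subtype) := by
  classical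
  haveI := Fact.mk Nat.prime_two
  have hmem : ∀ {g : G}, g ∈ (Subgroup.centralizer ({z} : Set G)) ↔ g * z = z * g := Subgroup.mem_centralizer_singleton_iff
  let z' : (Subgroup.centralizer ({z} : Set G)) := ⟨z, hmem.2 rfl⟩
  obtain ⟨f, hf⟩ : ∃ f : (Subgroup.centralizer ({z} : Set G)) →* alternatingGroup (Fin 5),
      f = e.toMonoidHom.comp (QuotientGroup.mk' Q) := ⟨_, rfl⟩
  have hsurj : Function.Surjective f := by
    rw [hf]; exact e.surjective.comp (QuotientGroup.mk'_surjective Q)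
  have hker : ∀ x : (Subgroup.centralizer ({z} : Set G)), f x = 1 ↔ x ∈ Q := fun x => by
    rw [hf]
    show e (QuotientGroup.mk' Q x) = 1 ↔ _
    rw [MulEquiv.map_eq_one_iff, QuotientGroup.mk'_apply, QuotientGroup.eq_one_iff]
  have hzQ : z' ∈ Q := (hker _).1 (center_altFive _ fun b => by
    obtain ⟨x, rfl⟩ := hsurj b
    rw [← map_mul, ← map_mul]
    exact congrArg f (Subtype.ext (hmem.1 x.2).symm))
  have hz1 : z' ≠ 1 := fun e' =>
    CfsgLib.Small.ne_one_of_orderOf_two hz (congrArg Subtype.val e')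
  have hcen : ∀ q : Q, q ∈ Subgroup.center Q → ((q : (Subgroup.centralizer ({z} : Set G))) : G) = 1 ∨ ((q : (Subgroup.centralizer ({z} : Set G))) : G) = z := by
    intro q hq
    have hzc : (⟨z', hzQ⟩ : Q) ∈ Subgroup.center Q :=
      Subgroup.mem_center_iff.2 fun p => Subtype.ext (Subtype.ext (hmem.1 (p : (Subgroup.centralizer ({z} : Set G))).2))
    obtain ⟨w, -, huniq⟩ := (Nat.card_eq_two_iff' (1 : Subgroup.center Q)).1 hQ.2
    by_cases h1 : (⟨q, hq⟩ : Subgroup.center Q) = 1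
    · exact Or.inl (congrArg (fun t : Subgroup.center Q => (((t : Q) : (Subgroup.centralizer ({z} : Set G))) : G)) h1)
    · exact Or.inr (congrArg (fun t : Subgroup.center Q => (((t : Q) : (Subgroup.centralizer ({z} : Set G))) : G))
        ((huniq _ h1).trans (huniq ⟨_, hzc⟩ fun e' => hz1
          (congrArg (fun t : Subgroup.center Q => ((t : Q) : (Subgroup.centralizer ({z} : Set G)))) e')).symm))
  have hmap : ∀ {g : G}, g ∈ Q.map (Subgroup.centralizer ({z} : Set G)).subtype ↔ ∃ hg : g ∈ (Subgroup.centralizer ({z} : Set G)), (⟨g, hg⟩ : (Subgroup.centralizer ({z} : Set G))) ∈ Q := by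
    intro g
    constructor
    · rintro ⟨q, hq, rfl⟩; exact ⟨q.2, hq⟩
    · rintro ⟨hg, hq⟩; exact ⟨_, hq, rfl⟩
  have hcomm : ∀ a ∈ Q.map (Subgroup.centralizer ({z} : Set G)).subtype, ∀ b ∈ Q.map (Subgroup.centralizer ({z} : Set G)).subtype,
      a * b = b * a ∨ a * b = b * a * z := by
    intro a ha b hb
    obtain ⟨ha', haQ⟩ := hmap.1 ha
    obtain ⟨hb', hbQ⟩ := hmap.1 hb
    have hc := hcen _ (CfsgLib.ExtraspecialBasic.commutator_mem_center hQ (⟨_, haQ⟩ : Q) ⟨_, hbQ⟩)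
    simp only [commutatorElement_def, Subgroup.coe_mul, Subgroup.coe_inv] at hc
    have ee : a * b = a * b * a⁻¹ * b⁻¹ * (b * a) := by group
    rcases hc with hc | hc
    · left; rw [ee, hc, one_mul]
    · right; rw [ee, hc, hmem.1 ((Subgroup.centralizer ({z} : Set G)).mul_mem hb' ha')]
  have hQ' : ∀ x : (Subgroup.centralizer ({z} : Set G)), (∀ q ∈ Q, x * q = q * x) → x ∈ Q := by
    intro x hx
    have hN : (Subgroup.centralizer (Q : Set (Subgroup.centralizer ({z} : Set G)))).Normal := inferInstance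
    haveI : IsSimpleGroup (alternatingGroup (Fin 5)) := alternatingGroup.isSimpleGroup (by simp)
    haveI := hN.map f hsurj
    have hxm : x ∈ Subgroup.centralizer (Q : Set (Subgroup.centralizer ({z} : Set G))) :=
      Subgroup.mem_centralizer_iff.2 fun q hq => (hx q hq).symm
    rcases IsSimpleGroup.eq_bot_or_eq_top_of_normal ((Subgroup.centralizer (Q : Set (Subgroup.centralizer ({z} : Set G)))).map f)
      inferInstance with hb | ht
    · exact (hker x).1 (Subgroup.mem_bot.1 (hb ▸ Subgroup.mem_map_of_mem f hxm))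
    · exfalso
      obtain ⟨k, hk, hkc⟩ : f c ∈ (Subgroup.centralizer (Q : Set (Subgroup.centralizer ({z} : Set G)))).map f :=
        ht ▸ Subgroup.mem_top _
      have hq : c * k⁻¹ ∈ Q := (hker _).1 (by rw [map_mul, map_inv, hkc, mul_inv_cancel])
      obtain ⟨q, hqd⟩ : ∃ q, q = c * k⁻¹ := ⟨_, rfl⟩
      rw [← hqd] at hq
      have hcq : c = q * k := by rw [hqd, inv_mul_cancel_right]
      have hku : k * u = u * k := (Subgroup.mem_centralizer_iff.1 hk u hu).symm
      have hcu : c * u * c⁻¹ = q * u * q⁻¹ := by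
        rw [hcq, mul_inv_rev, ← mul_assoc, mul_assoc q k u, hku]
        group
      have hcu' : (c : G) * u * (c : G)⁻¹ = (q : G) * u * (q : G)⁻¹ := congrArg Subtype.val hcu
      rcases hcomm (q : G) (hmap.2 ⟨q.2, hq⟩) (u : G) (hmap.2 ⟨u.2, hu⟩) with e' | e'
      · exact hmove.1 (by rw [hcu', e', mul_inv_cancel_right])
      · refine hmove.2 ?_
        rw [hcu', e', mul_assoc (u : G) q z, hmem.1 q.2, ← mul_assoc, mul_inv_cancel_right]
  refine
    { hz := hz
      hQC := ?_, hn := ?_, hcard := ?_, hzQ := hmap.2 ⟨_, hzQ⟩, hcenter := ?_, hcomm := hcomm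
      hsq := ?_, hCQ := ?_, hquot := ⟨f, hsurj, fun x => ?_⟩, hnwc := ?_, hcl := hcl }
  · intro q hq; exact hmem.1 (hmap.1 hq).1
  · intro x hx q hq
    obtain ⟨hq', hqQ⟩ := hmap.1 hq
    exact ⟨⟨x, hmem.2 hx⟩ * ⟨q, hq'⟩ * ⟨x, hmem.2 hx⟩⁻¹,
      (inferInstance : Q.Normal).conj_mem _ hqQ _, rfl⟩
  · rw [Subgroup.card_map_of_injective (Subgroup.centralizer ({z} : Set G)).subtype_injective, hcard]
  · intro q hq hcq
    obtain ⟨hq', hqQ⟩ := hmap.1 hq
    exact hcen ⟨_, hqQ⟩ (Subgroup.mem_center_iff.2 fun p => Subtype.ext (Subtype.ext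
      (hcq _ (hmap.2 ⟨(p : (Subgroup.centralizer ({z} : Set G))).2, p.2⟩)).symm))
  · intro q hq
    obtain ⟨hq', hqQ⟩ := hmap.1 hq
    have hc := hcen _ (CfsgLib.ExtraspecialBasic.pow_mem_center (p := 2) hQ (⟨_, hqQ⟩ : Q))
    simpa [pow_two] using hc
  · intro x hx hxq
    exact hmap.2 ⟨hmem.2 hx, hQ' _ fun q hq => Subtype.ext (hxq _ (hmap.2 ⟨q.2, hq⟩))⟩
  · rw [hker, hmap]
    exact ⟨fun hq => ⟨x.2, hq⟩, fun ⟨_, hq⟩ => hq⟩
  · exact ⟨u, hmap.2 ⟨u.2, hu⟩, huz, hconj⟩

end CfsgLib.HallJankoSpectrum
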