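import Cfsg.Agent.HallJankoSpectrum.CoreOf
import Cfsg.Agent.S0215

/-!
# Fusion of the central involution into the extraspecial group

`C = C(z)` has a normal subgroup `Q`, extraspecial of order 32 without elementary abelian
subgroups of order 8, with `C/Q ≅ A₅` and `C_C(Q) ≤ Q`. If `z` has another conjugate in `C`,
it has one in `Q`.
-/

set_option autoImplicit false
set_option linter.style.haveILetI false

namespace CfsgLib.HallJankoSpectrum

open CfsgLib.HallJanko (Eqz)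

/-- The hypotheses on the centraliser, without any fusion. -/
structure Shape {G : Type*} [Group G] (z : G) (Q : Subgroup G) : Prop where
  hz : z * z = 1
  hz1 : z ≠ 1
  hQC : ∀ q ∈ Q, q * z = z * q
  hn : ∀ c : G, c * z = z * c → ∀ q ∈ Q, c * q * c⁻¹ ∈ Q
  hcard : Nat.card Q = 32
  hzQ : z ∈ Q
  hsq : ∀ q ∈ Q, q * q = 1 ∨ q * q = z
  hCQ : ∀ c : G, c * z = z * c → (∀ q ∈ Q, c * q = q * c) → c ∈ Q
  hquot : ∃ f : Subgroup.centralizer ({z} : Set G) →* alternatingGroup (Fin 5),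
    Function.Surjective f ∧ ∀ c, f c = 1 ↔ (c : G) ∈ Q
  hminus : ∀ E : Subgroup G, E ≤ Q → (∀ x ∈ E, x * x = 1) → Nat.card E ≤ 4

theorem altFive_five : ∀ a : alternatingGroup (Fin 5), a * a = 1 → a ≠ 1 →
    ∃ b, (a * (b * a * b⁻¹)) ^ 5 = 1 ∧ a * (b * a * b⁻¹) ≠ 1 := by
  decide +kernel

/-- A fixed involution of `A₅`. -/
def altTwo : alternatingGroup (Fin 5) :=
  ⟨Equiv.swap 0 1 * Equiv.swap 2 3, Equiv.Perm.mem_alternatingGroup.2 (by decide +kernel)⟩

theorem altFive_two : ∀ a : alternatingGroup (Fin 5), a * a = 1 → a ≠ 1 →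
    ∃ b, b * altTwo * b⁻¹ = a := by
  decide +kernel

variable {G : Type*} [Group G] [Finite G] {z : G} {Q : Subgroup G}

namespace Shape

variable (h : Shape z Q)
include h

omit [Finite G] in
theorem etrans {x y w : G} (hxy : Eqz z x y) (hyw : Eqz z y w) : Eqz z x w := by
  rcases hxy with rfl | rfl
  · exact hyw
  · rcases hyw with rfl | rfl
    · exact Or.inr rfl
    · exact Or.inl (by rw [mul_assoc, h.hz, mul_one])

omit [Finite G] h in
theorem econj {g x y : G} (hg : g * z = z * g) (hxy : Eqz z x y) :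
    Eqz z (g * x * g⁻¹) (g * y * g⁻¹) := by
  rcases hxy with rfl | rfl
  · exact Or.inl rfl
  · refine Or.inr ?_
    have hg' : z * g⁻¹ = g⁻¹ * z := (Commute.inv_left (show Commute g z from hg)).eq.symm
    rw [← mul_assoc g y z, mul_assoc (g * y) z, hg', ← mul_assoc]

/-- An element of order 5 of `C(z)` fixes only `1` and `z` modulo `z`. -/
theorem fixed_five {g : G} (hg : g * z = z * g) (h5 : orderOf g = 5) {q : G} (hq : q ∈ Q)
    (hfix : Eqz z (g * q * g⁻¹) q) : q ∈ Subgroup.zpowers z := by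
  classical
  haveI := Fintype.ofFinite G
  have := Fact.mk (show Nat.Prime 5 by norm_num)
  have hfix' : g * q * g⁻¹ = q := by
    refine hfix.resolve_right fun e => ?_
    have hit : ∀ n : ℕ, g ^ n * q * (g ^ n)⁻¹ = q * z ^ n := by
      intro n
      induction n with
      | zero => simp
      | succ n ih =>
        have hc : Commute g⁻¹ (z ^ n) := ((show Commute g z from hg).inv_left).pow_right n
        calc g ^ (n + 1) * q * (g ^ (n + 1))⁻¹ = g * (g ^ n * q * (g ^ n)⁻¹) * g⁻¹ := by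
              rw [pow_succ' g n]; group
          _ = g * q * g⁻¹ * z ^ n := by rw [ih, mul_assoc, mul_assoc q, ← hc.eq]; group
          _ = q * z ^ (n + 1) := by rw [e, mul_assoc q z, ← pow_succ' z n]
    have h' := hit 5
    rw [← h5, pow_orderOf_eq_one, h5, show z ^ 5 = z by
      rw [pow_succ, show (4 : ℕ) = 2 * 2 from rfl, pow_mul, pow_two z, h.hz, one_pow, one_mul]]
      at h'
    simp only [one_mul, inv_one, mul_one] at h'
    exact h.hz1 (mul_eq_left.1 h'.symm)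
  obtain ⟨F, hF⟩ : ∃ F : Subgroup G, F = Q ⊓ Subgroup.centralizer ({g} : Set G) := ⟨_, rfl⟩
  let f : Q → Q := fun m => ⟨g * m * g⁻¹, h.hn g hg m m.2⟩
  have hf : ∀ (n : ℕ) (p : Q), ((f^[n] p : Q) : G) = g ^ n * p * (g ^ n)⁻¹ := by
    intro n
    induction n with
    | zero => simp
    | succ n ih =>
      intro p
      rw [Function.iterate_succ_apply', pow_succ' g n]
      show g * ((f^[n] p : Q) : G) * g⁻¹ = _
      rw [ih]; group
  have hmod := Equiv.Perm.card_fixedPoints_modEq (p := 5) (n := 1) (f := f) (by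
    funext p
    have h' := hf 5 p
    conv_rhs at h' => rw [← h5, pow_orderOf_eq_one, one_mul, inv_one, mul_one]
    apply Subtype.ext
    rw [pow_one]
    exact h')
  rw [← Nat.card_eq_fintype_card, ← Nat.card_eq_fintype_card, h.hcard] at hmod
  have hcardF : Nat.card (Function.fixedPoints f) = Nat.card F := by
    rw [hF]
    exact Nat.card_congr
      ⟨fun p => ⟨p.1, p.1.2, Subgroup.mem_centralizer_singleton_iff.2
        (mul_inv_eq_iff_eq_mul.1 (congrArg Subtype.val p.2)).symm⟩,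
      fun p => ⟨⟨p, p.2.1⟩, Subtype.ext (mul_inv_eq_iff_eq_mul.2
        (Subgroup.mem_centralizer_singleton_iff.1 p.2.2).symm)⟩,
      fun p => rfl, fun p => rfl⟩
  rw [hcardF] at hmod
  have hFQ : F ≤ Q := hF ▸ inf_le_left
  have hqF : q ∈ F := hF ▸ ⟨hq, Subgroup.mem_centralizer_singleton_iff.2
    (mul_inv_eq_iff_eq_mul.1 hfix').symm⟩
  have hzF : Subgroup.zpowers z ≤ F := by
    rw [Subgroup.zpowers_le, hF]
    exact ⟨h.hzQ, Subgroup.mem_centralizer_singleton_iff.2 hg.symm⟩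
  obtain ⟨j, hj, hFj⟩ := (Nat.dvd_prime_pow Nat.prime_two).1
    (show Nat.card F ∣ 2 ^ 5 from (h.hcard ▸ Subgroup.card_dvd_of_le hFQ : Nat.card F ∣ 32))
  have hz2 : Nat.card (Subgroup.zpowers z) = 2 := by
    rw [Nat.card_zpowers]
    exact CfsgLib.Small.orderOf_eq_two_iff_sq.2 ⟨h.hz1, h.hz⟩
  have hmod' : (32 : ℕ) % 5 = Nat.card F % 5 := hmod
  have hcases : Nat.card F = 2 ∨ Nat.card F = 32 := by
    rw [hFj] at hmod' ⊢
    interval_cases j <;> simp_all
  rcases hcases with h2 | h32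
  · rw [Subgroup.eq_of_le_of_card_ge hzF (by rw [h2, hz2])]
    exact hqF
  · exfalso
    have e := Subgroup.eq_of_le_of_card_ge hFQ (by rw [h32, h.hcard])
    have hgQ : g ∈ Q := h.hCQ g hg fun p hp => by
      rw [← e, hF] at hp
      exact (Subgroup.mem_centralizer_singleton_iff.1 hp.2).symm
    have := h.hcard ▸ Subgroup.orderOf_dvd_natCard Q hgQ
    rw [h5] at this
    norm_num at this

/-- The elements of `Q` fixed modulo `z` by `s`. -/
def stab {s : G} (hs : s * z = z * s) : Subgroup G where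
  carrier := {q | q ∈ Q ∧ Eqz z (s * q * s⁻¹) q}
  one_mem' := ⟨Q.one_mem, Or.inl (by simp)⟩
  mul_mem' := fun {a b} ha hb => ⟨Q.mul_mem ha.1 hb.1, by
    have hb' : b * z = z * b := h.hQC b hb.1
    rw [show s * (a * b) * s⁻¹ = (s * a * s⁻¹) * (s * b * s⁻¹) by group]
    rcases ha.2 with e | e <;> rcases hb.2 with e' | e' <;> rw [e, e']
    · exact Or.inl rfl
    · exact Or.inr (by rw [mul_assoc])
    · exact Or.inr (by rw [mul_assoc, ← hb', ← mul_assoc])
    · exact Or.inl (by rw [mul_assoc a z, ← mul_assoc z b, ← hb', mul_assoc b z z, h.hz, mul_one])⟩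
  inv_mem' := fun {a} ha => ⟨Q.inv_mem ha.1, by
    rw [show s * a⁻¹ * s⁻¹ = (s * a * s⁻¹)⁻¹ by group]
    rcases ha.2 with e | e <;> rw [e]
    · exact Or.inl rfl
    · refine Or.inr ?_
      rw [mul_inv_rev, inv_eq_of_mul_eq_one_right h.hz]
      exact (h.hQC _ (Q.inv_mem ha.1)).symm⟩

theorem mem_stab {s : G} (hs : s * z = z * s) {q : G} :
    q ∈ h.stab hs ↔ q ∈ Q ∧ Eqz z (s * q * s⁻¹) q := Iff.rfl

theorem stab_le {s : G} (hs : s * z = z * s) : h.stab hs ≤ Q := fun _ hq => hq.1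

theorem card_stab {s : G} (hs : s * z = z * s) (hs2 : s * s = 1) (hsQ : s ∉ Q) :
    Nat.card (h.stab hs) ≤ 8 := by
  obtain ⟨f, hf, hk⟩ := h.hquot
  obtain ⟨s', hs'⟩ : ∃ s' : Subgroup.centralizer ({z} : Set G), (s' : G) = s :=
    ⟨⟨s, Subgroup.mem_centralizer_singleton_iff.2 hs⟩, rfl⟩
  have hfs : f s' ≠ 1 := fun e => hsQ (hs' ▸ (hk _).1 e)
  have hfs2 : f s' * f s' = 1 := by
    rw [← map_mul, show s' * s' = 1 from Subtype.ext (by rw [Subgroup.coe_mul, hs', hs2]; rfl),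
      map_one]
  obtain ⟨b, hb5, hb1⟩ := altFive_five _ hfs2 hfs
  obtain ⟨c, rfl⟩ := hf b
  obtain ⟨g₀, hg₀⟩ : ∃ g₀, g₀ = s' * (c * s' * c⁻¹) := ⟨_, rfl⟩
  have hfg : f g₀ = f s' * (f c * f s' * (f c)⁻¹) := by
    rw [hg₀, map_mul, map_mul, map_mul, map_inv]
  rw [← hfg] at hb5 hb1
  have h5 : 5 ∣ orderOf g₀ := by
    haveI := Fact.mk (show Nat.Prime 5 by norm_num)
    rw [← orderOf_eq_prime hb5 hb1]
    exact orderOf_map_dvd f g₀
  obtain ⟨k, hk5⟩ : ∃ k, orderOf ((g₀ : G) ^ k) = 5 := by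
    refine ⟨orderOf g₀ / 5, ?_⟩
    rw [← Subgroup.coe_pow, Subgroup.orderOf_coe]
    exact orderOf_pow_orderOf_div (orderOf_pos g₀).ne' h5
  have hc : (c : G) * z = z * c := Subgroup.mem_centralizer_singleton_iff.1 c.2
  have hg₀z : (g₀ : G) * z = z * g₀ := Subgroup.mem_centralizer_singleton_iff.1 g₀.2
  obtain ⟨D', hD'⟩ : ∃ D' : Subgroup G, D' = (h.stab hs).map (MulAut.conj (c : G)).toMonoidHom :=
    ⟨_, rfl⟩
  have hcardD' : Nat.card D' = Nat.card (h.stab hs) := by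
    rw [hD', Subgroup.card_map_of_injective (MulAut.conj (c : G)).injective]
  have hD'Q : D' ≤ Q := by
    rw [hD']; rintro _ ⟨q, hq, rfl⟩; exact h.hn _ hc q hq.1
  have hfix : ∀ x ∈ h.stab hs ⊓ D', x ∈ Subgroup.zpowers z := by
    rintro x ⟨hx, hx'⟩
    have hx2 : Eqz z ((c : G) * s * (c : G)⁻¹ * x * ((c : G) * s * (c : G)⁻¹)⁻¹) x := by
      rw [hD'] at hx'
      obtain ⟨q, hq, rfl⟩ := hx'
      show Eqz z ((c : G) * s * (c : G)⁻¹ * ((c : G) * q * (c : G)⁻¹) * ((c : G) * s * (c : G)⁻¹)⁻¹)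
        ((c : G) * q * (c : G)⁻¹)
      rw [show (c : G) * s * (c : G)⁻¹ * ((c : G) * q * (c : G)⁻¹) * ((c : G) * s * (c : G)⁻¹)⁻¹ =
        (c : G) * (s * q * s⁻¹) * (c : G)⁻¹ by group]
      exact econj hc hq.2
    have hg : Eqz z ((g₀ : G) * x * (g₀ : G)⁻¹) x := by
      refine h.etrans ?_ hx.2
      rw [hg₀, Subgroup.coe_mul, Subgroup.coe_mul, Subgroup.coe_mul, Subgroup.coe_inv, hs']
      have := econj hs hx2
      rw [show s * ((c : G) * s * (c : G)⁻¹ * x * ((c : G) * s * (c : G)⁻¹)⁻¹) * s⁻¹ =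
        s * ((c : G) * s * (c : G)⁻¹) * x * (s * ((c : G) * s * (c : G)⁻¹))⁻¹ by group] at this
      exact this
    have hgn : ∀ n : ℕ, Eqz z ((g₀ : G) ^ n * x * ((g₀ : G) ^ n)⁻¹) x := by
      intro n
      induction n with
      | zero => exact Or.inl (by simp)
      | succ n ih =>
        refine h.etrans ?_ hg
        rw [show (g₀ : G) ^ (n + 1) * x * ((g₀ : G) ^ (n + 1))⁻¹ =
          (g₀ : G) * ((g₀ : G) ^ n * x * ((g₀ : G) ^ n)⁻¹) * (g₀ : G)⁻¹ by rw [pow_succ']; group]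
        exact econj hg₀z ih
    exact h.fixed_five ((show Commute (g₀ : G) z from hg₀z).pow_left k).eq hk5 hx.1 (hgn k)
  have h2 : Nat.card (D'.subgroupOf (h.stab hs)) ≤ 2 := by
    rw [← Subgroup.inf_subgroupOf_left, Nat.card_congr (Subgroup.subgroupOfEquivOfLe inf_le_left).toEquiv]
    refine (Subgroup.card_le_of_le fun x hx => hfix x hx).trans_eq ?_
    rw [Nat.card_zpowers]
    exact CfsgLib.Small.orderOf_eq_two_iff_sq.2 ⟨h.hz1, h.hz⟩
  have h32 : Nat.card D' * D'.relIndex Q = 32 := by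
    rw [← h.hcard, ← Nat.card_congr (Subgroup.subgroupOfEquivOfLe hD'Q).toEquiv]
    exact Subgroup.card_mul_index _
  have hr : D'.relIndex (h.stab hs) ≤ D'.relIndex Q :=
    Subgroup.relIndex_le_of_le_right (h.stab_le hs) (fun e => by rw [e] at h32; simp at h32)
  have hD := Subgroup.card_mul_index (D'.subgroupOf (h.stab hs))
  rw [← Subgroup.relIndex] at hD
  rw [hcardD'] at h32
  have : Nat.card (h.stab hs) ≤ 2 * D'.relIndex Q := hD ▸ Nat.mul_le_mul h2 hr
  nlinarith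

/-- The involutions of the coset of `s`. -/
def cosetInv (_ : Shape z Q) (s : G) : Set G := {x | x * x = 1 ∧ s * x ∈ Q}

theorem image_subset {s : G} (hs : s * z = z * s) (hs2 : s * s = 1) :
    (fun x => s * x) '' h.cosetInv s ⊆ {q | q ∈ h.stab hs ∧ s * q * s⁻¹ = q⁻¹} := by
  rintro _ ⟨x, ⟨hx2, hxQ⟩, rfl⟩
  have e : s * (s * x) * s⁻¹ = (s * x)⁻¹ := by
    rw [inv_eq_of_mul_eq_one_right hs2, mul_inv_rev, inv_eq_of_mul_eq_one_right hs2,
      inv_eq_of_mul_eq_one_right hx2, ← mul_assoc, hs2, one_mul]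
  refine ⟨⟨hxQ, ?_⟩, e⟩
  rw [e]
  rcases h.hsq _ hxQ with h1 | h1
  · exact Or.inl (inv_eq_of_mul_eq_one_right h1)
  · refine Or.inr (inv_eq_of_mul_eq_one_right ?_)
    rw [← mul_assoc, h1, h.hz]

theorem ncard_coset {s : G} (hs : s * z = z * s) (hs2 : s * s = 1) :
    (h.cosetInv s).ncard ≤ Nat.card (h.stab hs) := by
  rw [← Set.ncard_image_of_injective _ (mul_right_injective s)]
  exact (Set.ncard_le_ncard ((h.image_subset hs hs2).trans fun q hq => hq.1)
    (Set.toFinite _)).trans_eq (Nat.card_coe_set_eq _).symm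

/-- The `Q`-class of `s`. -/
def orb (_ : Shape z Q) (s : G) : Set G := {x | ∃ p ∈ Q, p * s * p⁻¹ = x}

theorem card_orb {s : G} :
    Nat.card (Q ⊓ Subgroup.centralizer ({s} : Set G) : Subgroup G) * (h.orb s).ncard = 32 := by
  classical
  obtain ⟨H, hH⟩ : ∃ H : Subgroup Q, H = (Q ⊓ Subgroup.centralizer ({s} : Set G)).subgroupOf Q :=
    ⟨_, rfl⟩
  have hmem : ∀ a b : Q, a⁻¹ * b ∈ H ↔ (a : G) * s * (a : G)⁻¹ = (b : G) * s * (b : G)⁻¹ := by
    intro a b
    rw [hH, Subgroup.mem_subgroupOf, Subgroup.mem_inf, Subgroup.mem_centralizer_singleton_iff]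
    simp only [Subgroup.coe_mul, Subgroup.coe_inv]
    constructor
    · rintro ⟨-, e⟩
      calc (a : G) * s * (a : G)⁻¹ = a * (s * ((a : G)⁻¹ * b)) * (b : G)⁻¹ := by group
        _ = a * ((a : G)⁻¹ * b * s) * (b : G)⁻¹ := by rw [e]
        _ = _ := by group
    · intro e
      refine ⟨Q.mul_mem (Q.inv_mem a.2) b.2, ?_⟩
      calc (a : G)⁻¹ * b * s = (a : G)⁻¹ * (b * s * (b : G)⁻¹) * b := by group
        _ = (a : G)⁻¹ * (a * s * (a : G)⁻¹) * b := by rw [e]
        _ = _ := by group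
  let ψ : Q ⧸ H → G := Quotient.lift (fun p : Q => (p : G) * s * (p : G)⁻¹) fun a b hab =>
    (hmem a b).1 (QuotientGroup.leftRel_apply.1 hab)
  have hinj : Function.Injective ψ := by
    intro x y
    induction x using QuotientGroup.induction_on with
    | H a =>
      induction y using QuotientGroup.induction_on with
      | H b => exact fun e => QuotientGroup.eq.2 ((hmem a b).2 e)
  have hrange : Set.range ψ = h.orb s := by
    ext x
    constructor
    · rintro ⟨q, rfl⟩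
      induction q using QuotientGroup.induction_on with
      | H a => exact ⟨a, a.2, rfl⟩
    · rintro ⟨p, hp, rfl⟩
      exact ⟨QuotientGroup.mk ⟨p, hp⟩, rfl⟩
  rw [← hrange, Set.ncard_range_of_injective hinj,
    ← Nat.card_congr (Subgroup.subgroupOfEquivOfLe (inf_le_left :
      Q ⊓ Subgroup.centralizer ({s} : Set G) ≤ Q)).toEquiv, ← hH, ← h.hcard]
  exact Subgroup.card_mul_index H

theorem inf_le_stab {s : G} (hs : s * z = z * s) :
    Q ⊓ Subgroup.centralizer ({s} : Set G) ≤ h.stab hs := fun q hq =>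
  ⟨hq.1, Or.inl (by
    rw [← Subgroup.mem_centralizer_singleton_iff.1 hq.2, mul_inv_cancel_right])⟩

theorem orb_subset {s x : G} (hx : x ∈ h.cosetInv s) (hxz : x * z = z * x) :
    h.orb x ⊆ h.cosetInv s := by
  rintro _ ⟨p, hp, rfl⟩
  refine ⟨?_, ?_⟩
  · rw [show p * x * p⁻¹ * (p * x * p⁻¹) = p * (x * x) * p⁻¹ by group, hx.1, mul_one,
      mul_inv_cancel]
  · have : x⁻¹ * p * x ∈ Q := by
      have := h.hn x⁻¹ ((show Commute x z from hxz).inv_left).eq p hp
      rwa [inv_inv] at this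
    rw [show s * (p * x * p⁻¹) = s * x * (x⁻¹ * p * x) * p⁻¹ by group]
    exact Q.mul_mem (Q.mul_mem hx.2 this) (Q.inv_mem hp)

theorem comm_of_coset {s x : G} (hs : s * z = z * s) (hx : x ∈ h.cosetInv s) : x * z = z * x := by
  have := ((show Commute s z from hs).inv_left).mul_left (show Commute (s * x) z from h.hQC _ hx.2)
  rwa [inv_mul_cancel_left] at this

theorem not_mem_of_coset {s x : G} (hsQ : s ∉ Q) (hx : x ∈ h.cosetInv s) : x ∉ Q := fun e =>
  hsQ (by simpa using Q.mul_mem hx.2 (Q.inv_mem e))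

theorem mem_orb_self {s : G} : s ∈ h.orb s := ⟨1, Q.one_mem, by simp⟩

theorem coset_eq_orb {s : G} (hs : s * z = z * s) (hs2 : s * s = 1) (hsQ : s ∉ Q) {x : G}
    (hx : x ∈ h.cosetInv s) : x ∈ h.orb s := by
  by_contra hxo
  have hxz := h.comm_of_coset hs hx
  have hself : s ∈ h.cosetInv s := ⟨hs2, by rw [hs2]; exact Q.one_mem⟩
  have hdisj : Disjoint (h.orb s) (h.orb x) := by
    rw [Set.disjoint_left]
    rintro y ⟨p, hp, rfl⟩ ⟨r, hr, e⟩
    exact hxo ⟨r⁻¹ * p, Q.mul_mem (Q.inv_mem hr) hp, by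
      calc r⁻¹ * p * s * (r⁻¹ * p)⁻¹ = r⁻¹ * (p * s * p⁻¹) * r := by group
        _ = x := by rw [← e]; group⟩
  have hsum : (h.orb s).ncard + (h.orb x).ncard ≤ (h.cosetInv s).ncard := by
    rw [← Set.ncard_union_eq hdisj (Set.toFinite _) (Set.toFinite _)]
    exact Set.ncard_le_ncard (Set.union_subset (h.orb_subset hself hs) (h.orb_subset hx hxz))
      (Set.toFinite _)
  have hJ := h.ncard_coset hs hs2
  have hD := h.card_stab hs hs2 hsQ
  have hC := Subgroup.card_le_of_le (h.inf_le_stab hs)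
  have hC' := (Subgroup.card_le_of_le (h.inf_le_stab hxz)).trans
    (h.card_stab hxz hx.1 (h.not_mem_of_coset hsQ hx))
  have hs32 := h.card_orb (s := s)
  have hx32 := h.card_orb (s := x)
  obtain ⟨A, hA⟩ : ∃ A, A = Nat.card (Q ⊓ Subgroup.centralizer ({s} : Set G) : Subgroup G) :=
    ⟨_, rfl⟩
  rw [← hA] at hC hs32
  have ha : 4 ≤ (h.orb s).ncard := by nlinarith
  have hb : 4 ≤ (h.orb x).ncard := by nlinarith
  have hD8 : Nat.card (h.stab hs) = 8 := by omega
  have hA8 : A = 8 := by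
    have : (h.orb s).ncard = 4 := by omega
    rw [this] at hs32
    omega
  have hJ8 : (h.cosetInv s).ncard = 8 := by omega
  have hCD := Subgroup.eq_of_le_of_card_ge (h.inf_le_stab hs) (by rw [← hA, hA8, hD8])
  have himg : (fun x => s * x) '' h.cosetInv s = (h.stab hs : Set G) := by
    refine Set.eq_of_subset_of_ncard_le ((h.image_subset hs hs2).trans fun q hq => hq.1) ?_
      (Set.toFinite _)
    rw [Set.ncard_image_of_injective _ (mul_right_injective s), hJ8, ← Nat.card_coe_set_eq]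
    exact hD8.le
  have h4 := h.hminus (h.stab hs) (h.stab_le hs) fun q hq => by
    have hq' : q ∈ (fun x => s * x) '' h.cosetInv s := by rw [himg]; exact hq
    have e := (h.image_subset hs hs2 hq').2
    rw [← hCD] at hq
    rw [← Subgroup.mem_centralizer_singleton_iff.1 hq.2, mul_inv_cancel_right] at e
    exact mul_eq_one_iff_eq_inv.2 e
  omega

/-- An involution outside `Q` commutes with a non-central involution of `Q`. -/
theorem exists_commuting {s : G} (hs : s * z = z * s) (hs2 : s * s = 1) (hsQ : s ∉ Q) :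
    ∃ a ∈ Q, a * a = 1 ∧ a ≠ 1 ∧ a ≠ z ∧ a * s = s * a := by
  by_contra hne
  have hself : s ∈ h.cosetInv s := ⟨hs2, by rw [hs2]; exact Q.one_mem⟩
  have hKJ := Set.ncard_le_ncard (h.orb_subset hself hs) (Set.toFinite _)
  have hD := h.card_stab hs hs2 hsQ
  have hC := Subgroup.card_le_of_le (h.inf_le_stab hs)
  have hs32 := h.card_orb (s := s)
  obtain ⟨C, hCdef⟩ : ∃ C : Subgroup G, C = Q ⊓ Subgroup.centralizer ({s} : Set G) := ⟨_, rfl⟩
  rw [← hCdef] at hC hs32
  have hsub : (fun x => s * x) '' h.cosetInv s ⊆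
      ((h.stab hs : Set G) \ (C : Set G)) ∪ {1, z} := by
    intro q hq
    obtain ⟨hqD, e⟩ := h.image_subset hs hs2 hq
    by_cases hqC : q ∈ C
    · right
      rw [hCdef] at hqC
      rw [← Subgroup.mem_centralizer_singleton_iff.1 hqC.2, mul_inv_cancel_right] at e
      by_contra! hc
      simp only [Set.mem_insert_iff, Set.mem_singleton_iff, not_or] at hc
      exact hne ⟨q, hqC.1, mul_eq_one_iff_eq_inv.2 e, hc.1, hc.2,
        Subgroup.mem_centralizer_singleton_iff.1 hqC.2⟩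
    · exact Or.inl ⟨hqD, hqC⟩
  have h1 := (Set.ncard_le_ncard hsub (Set.toFinite _)).trans (Set.ncard_union_le _ _)
  have hCD : (C : Set G) ⊆ (h.stab hs : Set G) := hCdef ▸ h.inf_le_stab hs
  rw [Set.ncard_image_of_injective _ (mul_right_injective s), Set.ncard_pair h.hz1.symm,
    Set.ncard_sdiff hCD (Set.toFinite _)] at h1
  have e1 : (h.stab hs : Set G).ncard = Nat.card (h.stab hs) := (Nat.card_coe_set_eq _).symm
  have e2 : (C : Set G).ncard = Nat.card C := (Nat.card_coe_set_eq _).symm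
  rw [e1, e2] at h1
  obtain ⟨A, hA⟩ : ∃ A, A = Nat.card C := ⟨_, rfl⟩
  rw [← hA] at h1 hC hs32
  have hpos : 0 < A := hA ▸ Nat.card_pos
  have : A ≤ 8 := by omega
  interval_cases A <;> omega

/-- All involutions of `C(z)` outside `Q` are conjugate. -/
theorem isConj_outside {x y : G} (hx : x * z = z * x) (hx2 : x * x = 1) (hxQ : x ∉ Q)
    (hy : y * z = z * y) (hy2 : y * y = 1) (hyQ : y ∉ Q) : IsConj x y := by
  obtain ⟨f, hf, hk⟩ := h.hquot
  have key : ∀ w : G, (hw : w * z = z * w) → w * w = 1 → w ∉ Q →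
      ∃ b, b * altTwo * b⁻¹ = f ⟨w, Subgroup.mem_centralizer_singleton_iff.2 hw⟩ := by
    intro w hw hw2 hwQ
    refine altFive_two _ ?_ fun e => hwQ ((hk _).1 e)
    rw [← map_mul, ← map_one f]
    exact congrArg f (Subtype.ext hw2)
  obtain ⟨b₁, h₁⟩ := key x hx hx2 hxQ
  obtain ⟨b₂, h₂⟩ := key y hy hy2 hyQ
  obtain ⟨c, hc⟩ := hf (b₂ * b₁⁻¹)
  obtain ⟨x', hx'⟩ : ∃ x', x' = (c : G) * x * (c : G)⁻¹ := ⟨_, rfl⟩
  have hJ : x' ∈ h.cosetInv y := by
    refine ⟨?_, ?_⟩
    · rw [hx', show (c : G) * x * (c : G)⁻¹ * ((c : G) * x * (c : G)⁻¹) =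
        (c : G) * (x * x) * (c : G)⁻¹ by group, hx2, mul_one, mul_inv_cancel]
    · obtain ⟨x₀, hx₀⟩ : ∃ x₀ : Subgroup.centralizer ({z} : Set G),
          x₀ = ⟨x, Subgroup.mem_centralizer_singleton_iff.2 hx⟩ := ⟨_, rfl⟩
      obtain ⟨y₀, hy₀⟩ : ∃ y₀ : Subgroup.centralizer ({z} : Set G),
          y₀ = ⟨y, Subgroup.mem_centralizer_singleton_iff.2 hy⟩ := ⟨_, rfl⟩
      have e : f (y₀ * (c * x₀ * c⁻¹)) = 1 := by
        rw [map_mul, map_mul, map_mul, map_inv, hc, hx₀, ← h₁,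
          show b₂ * b₁⁻¹ * (b₁ * altTwo * b₁⁻¹) * (b₂ * b₁⁻¹)⁻¹ = b₂ * altTwo * b₂⁻¹ by group,
          h₂, ← hy₀, ← map_mul, ← map_one f]
        exact congrArg f (Subtype.ext (by rw [hy₀]; exact hy2))
      have := (hk _).1 e
      rw [hx₀, hy₀] at this
      rw [hx']
      exact this
  obtain ⟨p, -, hp⟩ := h.coset_eq_orb hy hy2 hyQ hJ
  exact (isConj_iff.2 ⟨(c : G), hx'.symm⟩).trans (isConj_iff.2 ⟨p, hp⟩).symm

/-- If `z` has another conjugate in `C(z)`, it has another conjugate in `Q`. -/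
theorem exists_conj_mem {s : G} (hzs : IsConj z s) (hs : s * z = z * s) (hne : s ≠ z) :
    ∃ u ∈ Q, u ≠ z ∧ IsConj z u := by
  by_cases hsQ : s ∈ Q
  · exact ⟨s, hsQ, hne, hzs⟩
  obtain ⟨g, hg⟩ := isConj_iff.1 hzs
  have hs2 : s * s = 1 := by
    rw [← hg, show g * z * g⁻¹ * (g * z * g⁻¹) = g * (z * z) * g⁻¹ by group, h.hz, mul_one,
      mul_inv_cancel]
  obtain ⟨a, haQ, ha2, ha1, haz, has⟩ := h.exists_commuting hs hs2 hsQ
  have haz' : a * z ∈ Q := Q.mul_mem haQ h.hzQ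
  by_contra hnone
  push Not at hnone
  have key : ∀ x ∈ Q, x * x = 1 → x ≠ z → x * s = s * x → g⁻¹ * x * g ∈ Q := by
    intro x hx hx2 hxz hxs
    by_contra hout
    have hc : g⁻¹ * x * g * z = z * (g⁻¹ * x * g) := by
      calc g⁻¹ * x * g * z = g⁻¹ * (x * (g * z * g⁻¹)) * g := by group
        _ = g⁻¹ * ((g * z * g⁻¹) * x) * g := by rw [hg, hxs]
        _ = _ := by group
    have h2 : g⁻¹ * x * g * (g⁻¹ * x * g) = 1 := by
      rw [show g⁻¹ * x * g * (g⁻¹ * x * g) = g⁻¹ * (x * x) * g by group, hx2, mul_one,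
        inv_mul_cancel]
    exact hnone x hx hxz ((hzs.trans (h.isConj_outside hs hs2 hsQ hc h2 hout)).trans
      (isConj_iff.2 ⟨g, by group⟩))
  have k1 := key a haQ ha2 haz has
  have k2 := key (a * z) haz'
    (by rw [mul_assoc a z, ← mul_assoc z a, ← h.hQC a haQ, mul_assoc a z z, h.hz, mul_one, ha2])
    (fun e => ha1 (by simpa using mul_right_cancel (e.trans (one_mul z).symm)))
    (by rw [mul_assoc a z s, ← hs, ← mul_assoc, has, mul_assoc])
  have k3 := Q.mul_mem k1 k2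
  rw [show g⁻¹ * a * g * (g⁻¹ * (a * z) * g) = g⁻¹ * (a * a) * z * g by group, ha2, mul_one] at k3
  refine hnone _ k3 (fun e => hne ?_) (isConj_iff.2 ⟨g⁻¹, by rw [inv_inv]⟩)
  rw [← hg]
  calc g * z * g⁻¹ = g * (g⁻¹ * z * g) * g⁻¹ := by rw [e]
    _ = z := by group

end Shape

end CfsgLib.HallJankoSpectrum
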