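import Mathlib

/-!
# The element orders of the symmetric group of degree 8
-/

set_option autoImplicit false

namespace CfsgLib.HallJankoSpectrum

open Equiv (Perm)

/-- All multisets of numbers at least 2 of bounded cardinality and sum. -/
def parts : ℕ → ℕ → List (Multiset ℕ)
  | 0, _ => [0]
  | f + 1, n => 0 :: (List.range (n + 1)).flatMap fun m =>
      if 2 ≤ m then (parts f (n - m)).map (m ::ₘ ·) else []

theorem mem_parts : ∀ (f n : ℕ) (s : Multiset ℕ), (∀ m ∈ s, 2 ≤ m) → s.sum ≤ n →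
    Multiset.card s ≤ f → s ∈ parts f n
  | 0, n, s, _, _, hc => by simp [parts, Multiset.card_eq_zero.1 (Nat.le_zero.1 hc)]
  | f + 1, n, s, h2, hs, hc => by
    rcases Multiset.empty_or_exists_mem s with rfl | ⟨a, ha⟩
    · simp [parts]
    obtain ⟨t, rfl⟩ := Multiset.exists_cons_of_mem ha
    rw [Multiset.sum_cons] at hs
    rw [Multiset.card_cons] at hc
    have hr : t ∈ parts f (n - a) :=
      mem_parts f (n - a) t (fun m hm => h2 m (Multiset.mem_cons_of_mem hm)) (by omega) (by omega)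
    simp only [parts, List.mem_cons, List.mem_flatMap]
    refine Or.inr ⟨a, List.mem_range.2 (by omega), ?_⟩
    rw [if_pos (h2 a ha)]
    exact List.mem_map.2 ⟨t, hr, rfl⟩

theorem cycleType_mem (σ : Perm (Fin 8)) : σ.cycleType ∈ parts 4 8 := by
  have hsum : σ.cycleType.sum ≤ 8 := by
    simpa using σ.sum_cycleType_le
  have h2 : ∀ m ∈ σ.cycleType, 2 ≤ m := fun m hm => Perm.two_le_of_mem_cycleType hm
  refine mem_parts 4 8 _ h2 hsum ?_
  have := Multiset.card_nsmul_le_sum h2
  simp only [smul_eq_mul] at this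
  omega

/-- The element orders of the Hall–Janko group. -/
def hjOrders : Finset ℕ := {1, 2, 3, 4, 5, 6, 7, 8, 10, 12, 15}

theorem perm_orderOf_mem (σ : Perm (Fin 8)) : orderOf σ ∈ hjOrders := by
  have key : ∀ s ∈ parts 4 8, s.lcm ∈ hjOrders := by decide +kernel
  rw [← Perm.lcm_cycleType]
  exact key _ (cycleType_mem σ)

theorem orderOf_of_test {M : Type*} [Monoid M] [DecidableEq M] {x : M} {n : ℕ} (hn : 0 < n)
    (h : x ^ n = 1 ∧ (List.range n).all fun m => m == 0 || decide (x ^ m ≠ 1)) : orderOf x = n := by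
  refine (orderOf_eq_iff hn).2 ⟨h.1, fun m hm hm0 => ?_⟩
  have := List.all_eq_true.1 h.2 m (List.mem_range.2 hm)
  simpa [Nat.pos_iff_ne_zero.1 hm0] using this

theorem exists_perm_orderOf : ∀ n ∈ hjOrders, ∃ σ : Perm (Fin 8), orderOf σ = n := by
  intro n hn
  have key : ∀ (c : List (List (Fin 8))), 0 < n → (c.map List.formPerm).prod ^ n = 1 ∧
      ((List.range n).all fun m => m == 0 || decide ((c.map List.formPerm).prod ^ m ≠ 1)) = true →
      ∃ σ : Perm (Fin 8), orderOf σ = n := fun c h0 h => ⟨_, orderOf_of_test h0 h⟩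
  simp only [hjOrders, Finset.mem_insert, Finset.mem_singleton] at hn
  rcases hn with rfl | rfl | rfl | rfl | rfl | rfl | rfl | rfl | rfl | rfl | rfl
  · exact key [] (by norm_num) (by decide +kernel)
  · exact key [[0, 1]] (by norm_num) (by decide +kernel)
  · exact key [[0, 1, 2]] (by norm_num) (by decide +kernel)
  · exact key [[0, 1, 2, 3]] (by norm_num) (by decide +kernel)
  · exact key [[0, 1, 2, 3, 4]] (by norm_num) (by decide +kernel)
  · exact key [[0, 1, 2, 3, 4, 5]] (by norm_num) (by decide +kernel)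
  · exact key [[0, 1, 2, 3, 4, 5, 6]] (by norm_num) (by decide +kernel)
  · exact key [[0, 1, 2, 3, 4, 5, 6, 7]] (by norm_num) (by decide +kernel)
  · exact key [[0, 1, 2, 3, 4], [5, 6]] (by norm_num) (by decide +kernel)
  · exact key [[0, 1, 2, 3], [4, 5, 6]] (by norm_num) (by decide +kernel)
  · exact key [[0, 1, 2, 3, 4], [5, 6, 7]] (by norm_num) (by decide +kernel)

/-- The element orders of `S₈`. -/
theorem range_orderOf_sym : Set.range (orderOf : Perm (Fin 8) → ℕ) = ↑hjOrders := by
  ext n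
  constructor
  · rintro ⟨σ, rfl⟩
    exact perm_orderOf_mem σ
  · exact fun hn => exists_perm_orderOf n hn

theorem cycleType_of_orderOf {σ : Perm (Fin 8)} :
    (orderOf σ = 7 → σ.cycleType = {7}) ∧ (orderOf σ = 15 → σ.cycleType = {5, 3}) := by
  have k7 : ∀ s ∈ parts 4 8, s.lcm = 7 → s = {7} := by decide +kernel
  have k15 : ∀ s ∈ parts 4 8, s.lcm = 15 → s = {5, 3} := by decide +kernel
  rw [← Perm.lcm_cycleType]
  exact ⟨k7 _ (cycleType_mem σ), k15 _ (cycleType_mem σ)⟩

end CfsgLib.HallJankoSpectrum
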