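import Cfsg.Agent.HallJankoSpectrum.CoreHJ
import Cfsg.Agent.HallJankoSpectrum.Abstract
import Cfsg.Agent.HallJankoSpectrum.Sym
import Cfsg.Agent.JankoTwoThree.J2Action

/-!
# The element orders of the Hall–Janko group
-/

set_option autoImplicit false

namespace CfsgLib.HallJankoSpectrum

theorem range_orderOf_J2 :
    Set.range (orderOf : Cfsg.Spor.J2 → ℕ) = ↑hjOrders := by
  obtain ⟨z, Q, hc⟩ := exists_core_hj
  rw [show hjOrders = ({1, 2, 3, 4, 5, 6, 7, 8, 10, 12, 15} : Finset ℕ) from rfl, ← spectrum hc]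
  ext n
  constructor
  · rintro ⟨x, rfl⟩
    exact ⟨CfsgLib.J2.equivHJ x, MulEquiv.orderOf_eq _ x⟩
  · rintro ⟨x, rfl⟩
    exact ⟨CfsgLib.J2.equivHJ.symm x, MulEquiv.orderOf_eq _ x⟩

end CfsgLib.HallJankoSpectrum
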