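import Cfsg.Agent.HallJankoSpectrum.Sym

/-!
# Arbitrarily large groups with the element orders of `S₈`

The extensions of powers of the six-dimensional module by `A₈`.
-/

set_option autoImplicit false

namespace CfsgLib.HallJankoSpectrum

open Equiv (Perm)

/-- The six-dimensional module, as functions on pairs of points. -/
def six : AddSubgroup (Fin 8 → Fin 8 → ZMod 2) where
  carrier := {d | ∃ w : Fin 8 → ZMod 2, (∑ i, w i) = 0 ∧ ∀ i j, d i j = w i + w j}
  zero_mem' := ⟨0, by simp, by simp⟩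
  add_mem' := by
    rintro a b ⟨u, hu, hu'⟩ ⟨w, hw, hw'⟩
    refine ⟨u + w, by simp [Finset.sum_add_distrib, hu, hw], fun i j => ?_⟩
    simp only [Pi.add_apply, hu', hw']
    abel
  neg_mem' := by
    rintro a ⟨u, hu, hu'⟩
    refine ⟨-u, by simp [hu], fun i j => ?_⟩
    simp only [Pi.neg_apply, hu']
    abel

theorem six_comp (σ : Perm (Fin 8)) {d : Fin 8 → Fin 8 → ZMod 2} (hd : d ∈ six) :
    (fun i j => d (σ i) (σ j)) ∈ six := by
  obtain ⟨w, hw, hw'⟩ := hd
  exact ⟨fun i => w (σ i), by rw [Equiv.sum_comp σ w, hw], fun i j => hw' _ _⟩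

/-- A power of the module. -/
abbrev Mod (k : ℕ) := Multiplicative (Fin k → six)

/-- The action of a permutation. -/
def actEquiv (k : ℕ) (σ : Perm (Fin 8)) : (Fin k → six) ≃+ (Fin k → six) where
  toFun F := fun l => ⟨fun i j => (F l : Fin 8 → Fin 8 → ZMod 2) (σ⁻¹ i) (σ⁻¹ j),
    six_comp σ⁻¹ (F l).2⟩
  invFun F := fun l => ⟨fun i j => (F l : Fin 8 → Fin 8 → ZMod 2) (σ i) (σ j),
    six_comp σ (F l).2⟩
  left_inv F := by
    funext l
    apply Subtype.ext
    funext i j
    simp
  right_inv F := by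
    funext l
    apply Subtype.ext
    funext i j
    simp
  map_add' F F' := by
    funext l
    apply Subtype.ext
    rfl

/-- `A₈` acting on a power of the module. -/
def act (k : ℕ) : alternatingGroup (Fin 8) →* MulAut (Mod k) where
  toFun g := AddEquiv.toMultiplicative (actEquiv k g)
  map_one' := by
    ext F
    rfl
  map_mul' g h := by
    ext F
    rfl

/-- The group. -/
abbrev Ext (k : ℕ) := Mod k ⋊[act k] alternatingGroup (Fin 8)

theorem pow_left {k : ℕ} (x : Ext k) : ∀ n : ℕ, ∀ (l : Fin k) (i j : Fin 8),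
    ((Multiplicative.toAdd (x ^ n).left l : six) : Fin 8 → Fin 8 → ZMod 2) i j =
      ∑ m ∈ Finset.range n, ((Multiplicative.toAdd x.left l : six) : Fin 8 → Fin 8 → ZMod 2)
        ((((x.right : alternatingGroup (Fin 8)) : Perm (Fin 8))⁻¹ ^ m) i)
        ((((x.right : alternatingGroup (Fin 8)) : Perm (Fin 8))⁻¹ ^ m) j) := by
  intro n
  induction n with
  | zero => intro l i j; simp
  | succ n ih =>
    intro l i j
    rw [pow_succ', SemidirectProduct.mul_left, Finset.sum_range_succ']
    simp only [toAdd_mul, Pi.add_apply, AddSubgroup.coe_add, pow_zero, Perm.one_apply]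
    rw [add_comm]
    congr 1
    refine (ih l _ _).trans (Finset.sum_congr rfl fun m _ => ?_)
    rfl

theorem pow_right {k : ℕ} (x : Ext k) (n : ℕ) : (x ^ n).right = x.right ^ n :=
  map_pow SemidirectProduct.rightHom x n

theorem mod_sq {k : ℕ} (v : Mod k) : v * v = 1 := by
  apply Multiplicative.toAdd.injective
  funext l
  apply Subtype.ext
  funext i j
  show (_ : ZMod 2) + _ = 0
  exact (show ∀ a : ZMod 2, a + a = 0 by decide) _

theorem pow_two_mul {k : ℕ} (x : Ext k) {n : ℕ} (hn : x.right ^ n = 1) : x ^ (2 * n) = 1 := by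
  rw [mul_comm, pow_mul, pow_two]
  ext1
  · rw [SemidirectProduct.mul_left, pow_right, hn, map_one, MulAut.one_apply, mod_sq]
    rfl
  · rw [SemidirectProduct.mul_right, pow_right, hn, one_mul]
    rfl

/-- A permutation has no fixed vector on the module. -/
def SumZero (σ : Perm (Fin 8)) (n : ℕ) : Prop :=
  ∀ w : Fin 8 → ZMod 2, (∑ i, w i) = 0 → ∀ i j,
    ∑ m ∈ Finset.range n, (w ((σ ^ m) i) + w ((σ ^ m) j)) = 0

theorem SumZero.conj {σ ρ : Perm (Fin 8)} {n : ℕ} (h : IsConj ρ σ) (hρ : SumZero ρ n) :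
    SumZero σ n := by
  obtain ⟨τ, rfl⟩ := isConj_iff.1 h
  intro w hw i j
  have := hρ (fun a => w (τ a)) (by rw [Equiv.sum_comp τ w, hw]) (τ⁻¹ i) (τ⁻¹ j)
  simpa [conj_pow] using this

theorem sumZero_seven : SumZero ([0, 1, 2, 3, 4, 5, 6] : List (Fin 8)).formPerm 7 := by
  unfold SumZero
  decide +kernel

theorem sumZero_fifteen : SumZero
    (([0, 1, 2, 3, 4] : List (Fin 8)).formPerm * ([5, 6, 7] : List (Fin 8)).formPerm) 15 := by
  unfold SumZero
  decide +kernel

theorem sumZero_of_orderOf {σ : Perm (Fin 8)} {n : ℕ} (hn : n = 7 ∨ n = 15)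
    (hσ : orderOf σ = n) : SumZero σ n := by
  rcases hn with rfl | rfl
  · refine SumZero.conj (Perm.isConj_iff_cycleType_eq.2 ?_) sumZero_seven
    rw [cycleType_of_orderOf.1 hσ]
    decide +kernel
  · refine SumZero.conj (Perm.isConj_iff_cycleType_eq.2 ?_) sumZero_fifteen
    rw [cycleType_of_orderOf.2 hσ]
    decide +kernel

theorem pow_eq_one_special {k : ℕ} (x : Ext k) {n : ℕ} (hn : n = 7 ∨ n = 15)
    (ho : orderOf x.right = n) : x ^ n = 1 := by
  ext1
  · apply Multiplicative.toAdd.injective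
    funext l
    apply Subtype.ext
    funext i j
    rw [pow_left]
    obtain ⟨w, hw, hw'⟩ := (Multiplicative.toAdd x.left l : six).2
    simp only [hw']
    exact sumZero_of_orderOf hn (by rw [orderOf_inv, Subgroup.orderOf_coe, ho]) w hw i j
  · rw [pow_right, ← ho, pow_orderOf_eq_one]
    rfl

theorem ext_orderOf_mem {k : ℕ} (x : Ext k) : orderOf x ∈ hjOrders := by
  have hd : orderOf x.right ∣ orderOf x := orderOf_map_dvd SemidirectProduct.rightHom x
  have hmem : orderOf x.right ∈ hjOrders := by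
    rw [← Subgroup.orderOf_coe]
    exact perm_orderOf_mem _
  have h8 : orderOf x.right ≠ 8 ∧ orderOf x.right ≠ 10 ∧ orderOf x.right ≠ 12 := by
    have key : ∀ s ∈ parts 4 8, (-1 : ℤˣ) ^ (s.sum + Multiset.card s) = 1 →
        s.lcm ≠ 8 ∧ s.lcm ≠ 10 ∧ s.lcm ≠ 12 := by decide +kernel
    rw [← Subgroup.orderOf_coe, ← Perm.lcm_cycleType]
    refine key _ (cycleType_mem _) ?_
    rw [← Perm.sign_of_cycleType]
    exact Perm.mem_alternatingGroup.1 x.right.2
  by_cases hsp : orderOf x.right = 7 ∨ orderOf x.right = 15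
  · rw [Nat.dvd_antisymm (orderOf_dvd_of_pow_eq_one (pow_eq_one_special x hsp rfl)) hd]
    exact hmem
  · have h2 : orderOf x ∣ 2 * orderOf x.right :=
      orderOf_dvd_of_pow_eq_one (pow_two_mul x (pow_orderOf_eq_one _))
    have key : ∀ n ∈ hjOrders, n ≠ 8 ∧ n ≠ 10 ∧ n ≠ 12 → ¬ (n = 7 ∨ n = 15) →
        ∀ m ∈ Nat.divisors (2 * n), m ∈ hjOrders := by decide +kernel
    exact key _ hmem h8 hsp _
      (Nat.mem_divisors.2 ⟨h2, by have := orderOf_pos x.right; omega⟩)

/-- A vector of the module from two points. -/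
def pairVec (a b : Fin 8) : six :=
  ⟨fun i j => (if i = a then 1 else 0) + (if i = b then 1 else 0) +
      ((if j = a then 1 else 0) + (if j = b then 1 else 0)),
    ⟨fun i => (if i = a then 1 else 0) + (if i = b then 1 else 0),
      by rw [Finset.sum_add_distrib]; simp; decide, fun i j => rfl⟩⟩

theorem ext_double {k : ℕ} (g : alternatingGroup (Fin 8)) {n : ℕ} (hn : 0 < n)
    (hg : orderOf g = n) (a b i j : Fin 8)
    (h : (∑ m ∈ Finset.range n,
      (pairVec a b : Fin 8 → Fin 8 → ZMod 2) (((g : Perm (Fin 8))⁻¹ ^ m) i)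
        (((g : Perm (Fin 8))⁻¹ ^ m) j)) ≠ 0) :
    ∃ x : Ext (k + 1), orderOf x = 2 * n := by
  refine ⟨⟨Multiplicative.ofAdd fun _ => pairVec a b, g⟩, ?_⟩
  obtain ⟨x, hx⟩ : ∃ x : Ext (k + 1), x = ⟨Multiplicative.ofAdd fun _ => pairVec a b, g⟩ := ⟨_, rfl⟩
  rw [← hx]
  have hxr : x.right = g := by rw [hx]
  have h2 : orderOf x ∣ 2 * n :=
    orderOf_dvd_of_pow_eq_one (pow_two_mul x (by rw [hxr, ← hg, pow_orderOf_eq_one]))
  obtain ⟨q, hq⟩ : n ∣ orderOf x := by
    rw [← hg, ← hxr]
    exact orderOf_map_dvd SemidirectProduct.rightHom x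
  rw [hq, mul_comm 2 n] at h2
  rcases (Nat.dvd_prime Nat.prime_two).1 (Nat.dvd_of_mul_dvd_mul_left hn h2) with rfl | rfl
  · exfalso
    refine h ?_
    have e : x ^ n = 1 := by rw [show n = orderOf x by rw [hq, mul_one], pow_orderOf_eq_one]
    have e' := pow_left x n 0 i j
    rw [e, hx] at e'
    exact e'.symm
  · rw [hq, mul_comm]

theorem range_orderOf_ext (k : ℕ) :
    Set.range (orderOf : Ext (k + 1) → ℕ) = ↑hjOrders := by
  ext n
  constructor
  · rintro ⟨x, rfl⟩
    exact ext_orderOf_mem x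
  intro hn
  have single : ∀ (σ : Perm (Fin 8)) (hσ : Perm.sign σ = 1) (m : ℕ), orderOf σ = m →
      ∃ x : Ext (k + 1), orderOf x = m := by
    intro σ hσ m hm
    refine ⟨SemidirectProduct.inr ⟨σ, Perm.mem_alternatingGroup.2 hσ⟩, ?_⟩
    rw [orderOf_injective _ SemidirectProduct.inr_injective, Subgroup.orderOf_mk, hm]
  have double : ∀ (σ : Perm (Fin 8)) (hσ : Perm.sign σ = 1) (m : ℕ) (hm0 : 0 < m),
      orderOf σ = m → ∀ a b i j : Fin 8, (∑ r ∈ Finset.range m,
        (pairVec a b : Fin 8 → Fin 8 → ZMod 2) ((σ⁻¹ ^ r) i) ((σ⁻¹ ^ r) j)) ≠ 0 →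
      ∃ x : Ext (k + 1), orderOf x = 2 * m := fun σ hσ m hm0 hm a b i j h =>
    ext_double ⟨σ, Perm.mem_alternatingGroup.2 hσ⟩ hm0 (by rw [Subgroup.orderOf_mk, hm]) a b i j h
  change n ∈ hjOrders at hn
  show ∃ x : Ext (k + 1), orderOf x = n
  simp only [hjOrders, Finset.mem_insert, Finset.mem_singleton] at hn
  rcases hn with rfl | rfl | rfl | rfl | rfl | rfl | rfl | rfl | rfl | rfl | rfl
  · exact ⟨1, orderOf_one⟩
  · exact single (Equiv.swap 0 1 * Equiv.swap 2 3) (by decide +kernel) 2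
      (orderOf_of_test (by norm_num) (by decide +kernel))
  · exact single ([0, 1, 2] : List (Fin 8)).formPerm (by decide +kernel) 3
      (orderOf_of_test (by norm_num) (by decide +kernel))
  · exact single (([0, 1, 2, 3] : List (Fin 8)).formPerm * Equiv.swap 4 5) (by decide +kernel) 4
      (orderOf_of_test (by norm_num) (by decide +kernel))
  · exact single ([0, 1, 2, 3, 4] : List (Fin 8)).formPerm (by decide +kernel) 5
      (orderOf_of_test (by norm_num) (by decide +kernel))
  · exact single (([0, 1, 2] : List (Fin 8)).formPerm * Equiv.swap 3 4 * Equiv.swap 5 6)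
      (by decide +kernel) 6 (orderOf_of_test (by norm_num) (by decide +kernel))
  · exact single ([0, 1, 2, 3, 4, 5, 6] : List (Fin 8)).formPerm (by decide +kernel) 7
      (orderOf_of_test (by norm_num) (by decide +kernel))
  · exact double (([0, 1, 2, 3] : List (Fin 8)).formPerm * Equiv.swap 4 5) (by decide +kernel) 4
      (by norm_num) (orderOf_of_test (by norm_num) (by decide +kernel)) 0 7 0 7 (by decide +kernel)
  · exact double ([0, 1, 2, 3, 4] : List (Fin 8)).formPerm (by decide +kernel) 5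
      (by norm_num) (orderOf_of_test (by norm_num) (by decide +kernel)) 5 6 5 7 (by decide +kernel)
  · exact double (([0, 1, 2] : List (Fin 8)).formPerm * Equiv.swap 3 4 * Equiv.swap 5 6)
      (by decide +kernel) 6 (by norm_num) (orderOf_of_test (by norm_num) (by decide +kernel))
      3 7 3 7 (by decide +kernel)
  · exact single (([0, 1, 2, 3, 4] : List (Fin 8)).formPerm * ([5, 6, 7] : List (Fin 8)).formPerm)
      (by decide +kernel) 15 (orderOf_of_test (by norm_num) (by decide +kernel))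

theorem card_ext (k : ℕ) : k < Nat.card (Ext k) := by
  rw [SemidirectProduct.card]
  have h2 : 2 ≤ Nat.card six :=
    Finite.one_lt_card_iff_nontrivial.2 ⟨pairVec 0 1, 0, fun e => by
      have := congrArg (fun d : six => (d : Fin 8 → Fin 8 → ZMod 2) 0 2) e
      revert this
      decide⟩
  have hM : Nat.card (Mod k) = Nat.card six ^ k := by
    rw [Nat.card_congr Multiplicative.toAdd, Nat.card_pi, Finset.prod_const, Finset.card_univ,
      Fintype.card_fin]
  rw [hM]
  calc k < 2 ^ k := Nat.lt_two_pow_self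
    _ ≤ Nat.card six ^ k := Nat.pow_le_pow_left h2 k
    _ ≤ _ := Nat.le_mul_of_pos_right _ Nat.card_pos

/-- For every bound there is a larger group with the element orders of `S₈`. -/
theorem exists_large (N : ℕ) : ∃ (H : Type) (_ : Group H) (_ : Fintype H),
    N < Fintype.card H ∧ Set.range (orderOf : H → ℕ) = ↑hjOrders := by
  haveI : Finite six := inferInstance
  haveI : Finite (Ext (N + 1)) := Finite.of_equiv _ SemidirectProduct.equivProd.symm
  haveI := Fintype.ofFinite (Ext (N + 1))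
  refine ⟨Ext (N + 1), inferInstance, inferInstance, ?_, range_orderOf_ext N⟩
  rw [← Nat.card_eq_fintype_card]
  exact lt_of_le_of_lt (Nat.le_succ N) (card_ext (N + 1))

end CfsgLib.HallJankoSpectrum
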